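import Mathlib
import Cfsg.Agent.Lib.Helper5.PSL2Solv.Gen

set_option autoImplicit false

namespace Cfsg.Agent.Lib.Helper5.PSL2Solv3

open Subgroup
open Cfsg.Agent.Lib.Helper5.PSL2Solv

/-- From solvability of `⟨x, y⟩` (nontrivial) extract a nontrivial abelian subgroup normalized by
`x` and `y`. -/
theorem exists_abelian_normalized {G : Type*} [Group G] (x y : G) (hx : x ≠ 1)
    (hs : Group.IsSolvable ↥(closure ({x, y} : Set G))) :
    ∃ A : Subgroup G, A ≠ ⊥ ∧ (∀ a ∈ A, ∀ b ∈ A, a * b = b * a) ∧
      (∀ a ∈ A, x * a * x⁻¹ ∈ A) ∧ (∀ a ∈ A, y * a * y⁻¹ ∈ A) ∧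
      (∀ a ∈ A, x⁻¹ * a * x ∈ A) ∧ (∀ a ∈ A, y⁻¹ * a * y ∈ A) := by
  classical
  set H := closure ({x, y} : Set G) with hH
  have hxH : x ∈ H := subset_closure (by simp)
  have hyH : y ∈ H := subset_closure (by simp)
  have : Nontrivial ↥H := by
    refine ⟨⟨⟨x, hxH⟩, 1, ?_⟩⟩
    intro h
    exact hx (congrArg Subtype.val h)
  obtain ⟨A, hAn, hAne, hAc⟩ := exists_abelian_normal ↥H
  have hconj : ∀ g : G, ∀ hg : g ∈ H, ∀ a ∈ A.map H.subtype, g * a * g⁻¹ ∈ A.map H.subtype := by
    rintro g hg _ ⟨a, ha, rfl⟩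
    exact ⟨(⟨g, hg⟩ : ↥H) * a * (⟨g, hg⟩ : ↥H)⁻¹, hAn.conj_mem _ ha _, rfl⟩
  refine ⟨A.map H.subtype, ?_, ?_, ?_, ?_, ?_, ?_⟩
  · intro h
    apply hAne
    rw [eq_bot_iff]
    intro a ha
    have : H.subtype a ∈ A.map H.subtype := mem_map_of_mem _ ha
    rw [h, mem_bot] at this
    rw [mem_bot]
    exact Subtype.ext this
  · rintro _ ⟨a, ha, rfl⟩ _ ⟨b, hb, rfl⟩
    have := hAc a ha b hb
    exact congrArg Subtype.val this
  · intro a ha
    exact hconj x hxH a ha
  · intro a ha
    exact hconj y hyH a ha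
  · intro a ha
    have := hconj x⁻¹ (inv_mem hxH) a ha
    rwa [inv_inv] at this
  · intro a ha
    have := hconj y⁻¹ (inv_mem hyH) a ha
    rwa [inv_inv] at this

theorem closure_pair_eq_of_mem {G : Type*} [Group G] {x y x' y' : G}
    (h1 : x' ∈ closure ({x, y} : Set G)) (h2 : y' ∈ closure ({x, y} : Set G))
    (h3 : x ∈ closure ({x', y'} : Set G)) (h4 : y ∈ closure ({x', y'} : Set G)) :
    closure ({x, y} : Set G) = closure ({x', y'} : Set G) := by
  apply le_antisymm
  · rw [closure_le]
    rintro g (rfl | rfl)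
    · exact h3
    · exact h4
  · rw [closure_le]
    rintro g (rfl | rfl)
    · exact h1
    · exact h2

/-- Two involutions generate a solvable (dihedral) group. -/
theorem solvable_pair_of_involutions {G : Type*} [Group G] (x y : G) (hx : x * x = 1)
    (hy : y * y = 1) : Group.IsSolvable ↥(closure ({x, y} : Set G)) := by
  have hxi : x⁻¹ = x := inv_eq_of_mul_eq_one_left hx
  have hyi : y⁻¹ = y := inv_eq_of_mul_eq_one_left hy
  have h := solvable_pair_of_inverts x (x * y)
    (by rw [mul_inv_rev, hxi, hyi, ← mul_assoc, hx, one_mul])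
  have e : closure ({x, y} : Set G) = closure ({x, x * y} : Set G) := by
    apply closure_pair_eq_of_mem
    · exact subset_closure (by simp)
    · exact mul_mem (subset_closure (by simp)) (subset_closure (by simp))
    · exact subset_closure (by simp)
    · have h1 : x ∈ closure ({x, x * y} : Set G) := subset_closure (by simp)
      have h2 : x * y ∈ closure ({x, x * y} : Set G) := subset_closure (by simp)
      have hy' := mul_mem (inv_mem h1) h2
      rwa [inv_mul_cancel_left] at hy'
  rw [e]
  exact h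

/-- Solvability of a pair is invariant under swapping. -/
theorem solvable_pair_swap {G : Type*} [Group G] (x y : G)
    (h : Group.IsSolvable ↥(closure ({x, y} : Set G))) :
    Group.IsSolvable ↥(closure ({y, x} : Set G)) := by
  rwa [Set.pair_comm]

/-- A group generated by `x, y` with `x` in an abelian subgroup normalized by `y` is solvable. -/
theorem solvable_of_gen_normal_comm {G : Type*} [Group G] (x y : G)
    (hgen : closure ({x, y} : Set G) = ⊤) (N : Subgroup G)
    (hNc : ∀ a ∈ N, ∀ b ∈ N, a * b = b * a) (hxN : x ∈ N)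
    (hy1 : ∀ a ∈ N, y * a * y⁻¹ ∈ N) (hy2 : ∀ a ∈ N, y⁻¹ * a * y ∈ N) :
    Group.IsSolvable G := by
  classical
  have hyN : y ∈ normalizer (N : Set G) := by
    rw [mem_normalizer_iff]
    intro n
    constructor
    · intro hn
      exact hy1 n hn
    · intro hn
      have := hy2 _ hn
      have e : y⁻¹ * (y * n * y⁻¹) * y = n := by group
      rwa [e] at this
  have hN : normalizer (N : Set G) = ⊤ := by
    rw [eq_top_iff, ← hgen, closure_le]
    intro g hg
    rcases hg with rfl | rfl
    · exact le_normalizer hxN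
    · exact hyN
  have hZn : N.Normal := normalizer_eq_top_iff.1 hN
  have hq : ∀ a : G ⧸ N, a ∈ zpowers ((QuotientGroup.mk' N) y) := by
    intro a
    obtain ⟨g, rfl⟩ := QuotientGroup.mk'_surjective N a
    have hg : g ∈ closure ({x, y} : Set G) := by rw [hgen]; trivial
    have : (QuotientGroup.mk' N) g ∈
        (closure ({x, y} : Set G)).map (QuotientGroup.mk' N) := mem_map_of_mem _ hg
    rw [MonoidHom.map_closure, Set.image_pair] at this
    have hx1 : (QuotientGroup.mk' N) x = 1 := by
      rw [QuotientGroup.mk'_apply, QuotientGroup.eq_one_iff]; exact hxN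
    rw [hx1] at this
    have hle : closure ({1, (QuotientGroup.mk' N) y} : Set (G ⧸ N)) ≤
        zpowers ((QuotientGroup.mk' N) y) := by
      rw [closure_le]
      intro z hz
      rcases hz with rfl | rfl
      · exact one_mem _
      · exact mem_zpowers _
    exact hle this
  have hcomm : ∀ a b : G ⧸ N, a * b = b * a := by
    intro a b
    obtain ⟨i, hi⟩ := hq a
    obtain ⟨j, hj⟩ := hq b
    rw [← hi, ← hj]
    show _ ^ i * _ ^ j = _ ^ j * _ ^ i
    rw [← zpow_add, ← zpow_add, add_comm]
  have : Group.IsSolvable (G ⧸ N) := Group.isSolvable_of_comm hcomm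
  have : Group.IsSolvable ↥N := by
    apply Group.isSolvable_of_comm
    rintro ⟨a, ha⟩ ⟨b, hb⟩
    ext
    exact hNc a ha b hb
  apply Group.isSolvable_of_ker_le_range N.subtype (QuotientGroup.mk' N)
  rw [QuotientGroup.ker_mk']
  intro g hg
  exact ⟨⟨g, hg⟩, rfl⟩

/-- If `y ^ 3 = 1` and `x` commutes with `y x y⁻¹`, then `⟨x, y⟩` is solvable. -/
theorem solvable_pair_of_three {G : Type*} [Group G] (x y : G) (hy : y * y * y = 1)
    (hc : x * (y * x * y⁻¹) = (y * x * y⁻¹) * x) :
    Group.IsSolvable ↥(closure ({x, y} : Set G)) := by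
  classical
  have hyi : y⁻¹ = y * y := by
    rw [inv_eq_iff_mul_eq_one, ← mul_assoc]; exact hy
  -- the three conjugates
  set j := y * x * y⁻¹ with hj
  set k := y * j * y⁻¹ with hk
  have hyk : y * k * y⁻¹ = x := by
    rw [hk, hj, hyi]
    have h6 : y * y * y * (y * y * y) = 1 := by rw [hy, one_mul]
    calc y * (y * (y * x * (y * y)) * (y * y)) * (y * y)
        = (y * y * y) * x * (y * y * y * (y * y * y)) := by group
      _ = x := by rw [h6, hy, one_mul, mul_one]
  have hjk : j * k = k * j := by
    have := congrArg (fun z => y * z * y⁻¹) hc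
    calc j * k = y * (x * (y * x * y⁻¹)) * y⁻¹ := by rw [hk, hj]; group
      _ = y * ((y * x * y⁻¹) * x) * y⁻¹ := this
      _ = k * j := by rw [hk, hj]; group
  have hkx : k * x = x * k := by
    have := congrArg (fun z => y * z * y⁻¹) hjk
    calc k * x = y * (j * k) * y⁻¹ := by rw [← hyk, hk]; group
      _ = y * (k * j) * y⁻¹ := this
      _ = x * k := by rw [← hyk, hk]; group
  set H := closure ({x, y} : Set G) with hH
  have hxH : x ∈ H := subset_closure (by simp)
  have hyH : y ∈ H := subset_closure (by simp)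
  -- work in `H`
  let N : Subgroup G := closure ({x, j, k} : Set G)
  have hNc : ∀ a ∈ N, ∀ b ∈ N, a * b = b * a := by
    have hgen : ∀ a ∈ ({x, j, k} : Set G), ∀ b ∈ ({x, j, k} : Set G), a * b = b * a := by
      rintro a (rfl | rfl | rfl) b (rfl | rfl | rfl)
      · rfl
      · exact hc
      · exact hkx.symm
      · exact hc.symm
      · rfl
      · exact hjk
      · exact hkx
      · exact hjk.symm
      · rfl
    have hle : N ≤ centralizer (N : Set G) := by
      rw [closure_le]
      intro g hg
      rw [SetLike.mem_coe, mem_centralizer_iff]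
      intro b hb
      have hle2 : N ≤ centralizer ({g} : Set G) := by
        rw [closure_le]
        intro z hz
        rw [SetLike.mem_coe, mem_centralizer_iff]
        intro w hw
        rw [Set.mem_singleton_iff] at hw
        subst hw
        exact hgen w hg z hz
      have := hle2 hb
      rw [mem_centralizer_iff] at this
      exact (this g rfl).symm
    intro a ha b hb
    have := hle ha
    rw [mem_centralizer_iff] at this
    exact (this b hb).symm
  have hconj : ∀ a ∈ N, y * a * y⁻¹ ∈ N := by
    intro a ha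
    have h1 : (MulAut.conj y).toMonoidHom a ∈ N.map (MulAut.conj y).toMonoidHom :=
      mem_map_of_mem _ ha
    have h2 : N.map (MulAut.conj y).toMonoidHom ≤ N := by
      rw [MonoidHom.map_closure, closure_le]
      rintro _ ⟨g, (rfl | rfl | rfl), rfl⟩
      · exact subset_closure (by simp [MulAut.conj_apply, hj])
      · exact subset_closure (by simp [MulAut.conj_apply, hk])
      · have : (MulAut.conj y).toMonoidHom k = x := by
          simp only [MulEquiv.toMonoidHom_eq_coe, MonoidHom.coe_coe, MulAut.conj_apply]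
          exact hyk
        rw [this]
        exact subset_closure (by simp)
    have := h2 h1
    simpa [MulAut.conj_apply] using this
  have hconj2 : ∀ a ∈ N, y⁻¹ * a * y ∈ N := by
    intro a ha
    have := hconj _ (hconj a ha)
    have e : y * (y * a * y⁻¹) * y⁻¹ = y⁻¹ * a * y := by
      have h3 : y * y = y⁻¹ := hyi.symm
      calc y * (y * a * y⁻¹) * y⁻¹ = (y * y) * a * (y⁻¹ * y⁻¹) := by group
        _ = y⁻¹ * a * y := by
          rw [h3]
          congr 1
          rw [← mul_inv_rev, h3, inv_inv]
    rwa [e] at this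
  have hNH : N ≤ H := by
    rw [closure_le]
    rintro g (rfl | rfl | rfl)
    · exact hxH
    · exact mul_mem (mul_mem hyH hxH) (inv_mem hyH)
    · exact mul_mem (mul_mem hyH (mul_mem (mul_mem hyH hxH) (inv_mem hyH))) (inv_mem hyH)
  apply solvable_of_gen_normal_comm (⟨x, hxH⟩ : ↥H) (⟨y, hyH⟩ : ↥H) _ (N.subgroupOf H)
  · rintro ⟨a, ha⟩ ha' ⟨b, hb⟩ hb'
    rw [mem_subgroupOf] at ha' hb'
    ext
    exact hNc a ha' b hb'
  · rw [mem_subgroupOf]
    exact subset_closure (by simp)
  · rintro ⟨a, ha⟩ ha'
    rw [mem_subgroupOf] at ha' ⊢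
    exact hconj a ha'
  · rintro ⟨a, ha⟩ ha'
    rw [mem_subgroupOf] at ha' ⊢
    exact hconj2 a ha'
  · have := Subgroup.closure_closure_coe_preimage (k := ({x, y} : Set G))
    convert this using 2
    ext ⟨g, hg⟩
    simp only [Set.mem_insert_iff, Set.mem_singleton_iff, Set.mem_preimage, Subtype.mk.injEq]

end Cfsg.Agent.Lib.Helper5.PSL2Solv3
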