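import Mathlib
import Cfsg.Agent.Lib.Helper5.PSL2Solv3.Grp
import Cfsg.Agent.Lib.Helper5.AutPSL2.Struct

set_option autoImplicit false

namespace Cfsg.Agent.Lib.Helper5.PSL2Solv3

open Matrix Subgroup
open Cfsg.Agent.Lib.Helper5.PSL2Solv Cfsg.Agent.Lib.Helper5.AutPSL2

variable {F : Type*} [Field F]

/-- Solvability in `PSL₂(F)` of the pair of images of two elements of `SL₂(F)`. -/
def SolvP (g₀ g : Matrix.SpecialLinearGroup (Fin 2) F) : Prop :=
  Group.IsSolvable ↥(closure ({pr F g₀, pr F g} :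
    Set (Matrix.ProjectiveSpecialLinearGroup (Fin 2) F)))

/-- Solvability in `SL₂` implies solvability in `PSL₂`. -/
theorem solvP_of_solv (g₀ g : Matrix.SpecialLinearGroup (Fin 2) F)
    (h : Group.IsSolvable ↥(closure ({g₀, g} : Set (Matrix.SpecialLinearGroup (Fin 2) F)))) :
    SolvP g₀ g := by
  unfold SolvP
  have e : closure ({pr F g₀, pr F g} : Set (Matrix.ProjectiveSpecialLinearGroup (Fin 2) F)) =
      (closure ({g₀, g} : Set (Matrix.SpecialLinearGroup (Fin 2) F))).map (pr F) := by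
    rw [MonoidHom.map_closure, Set.image_pair]
  rw [e]
  exact Group.isSolvable_of_surjective (f := (pr F).subgroupMap _)
    ((pr F).subgroupMap_surjective _)

/-- Conjugation invariance. -/
theorem solvP_conj (h g₀ g : Matrix.SpecialLinearGroup (Fin 2) F) (hs : SolvP g₀ g) :
    SolvP (h * g₀ * h⁻¹) (h * g * h⁻¹) := by
  unfold SolvP at hs ⊢
  have := (solv_pair_iff (MulAut.conj (pr F h)) (pr F g₀) (pr F g)).1 hs
  have e1 : pr F (h * g₀ * h⁻¹) = MulAut.conj (pr F h) (pr F g₀) := by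
    rw [MulAut.conj_apply, map_mul, map_mul, map_inv]
  have e2 : pr F (h * g * h⁻¹) = MulAut.conj (pr F h) (pr F g) := by
    rw [MulAut.conj_apply, map_mul, map_mul, map_inv]
  rw [e1, e2]
  exact this

theorem solvP_neg (g₀ g : Matrix.SpecialLinearGroup (Fin 2) F) (hs : SolvP g₀ g) :
    SolvP g₀ (negOne F * g) := by
  unfold SolvP at hs ⊢
  rwa [pr_negOne_mul]

theorem solvP_swap (g₀ g : Matrix.SpecialLinearGroup (Fin 2) F) (hs : SolvP g₀ g) :
    SolvP g g₀ := by
  unfold SolvP at hs ⊢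
  rwa [Set.pair_comm]

/-- The lifted abelian normalized subgroup. -/
theorem exists_normalized_lift (g₀ y : Matrix.SpecialLinearGroup (Fin 2) F)
    (h1 : pr F g₀ ≠ 1) (hs : SolvP g₀ y) :
    ∃ A : Subgroup (Matrix.SpecialLinearGroup (Fin 2) F),
      (∃ m ∈ A, m ≠ 1 ∧ m ≠ negOne F) ∧
      (∀ a ∈ A, ∀ b ∈ A, a * b = b * a ∨ a * b = negOne F * (b * a)) ∧
      (∀ a ∈ A, g₀ * a * g₀⁻¹ ∈ A) ∧ (∀ a ∈ A, y * a * y⁻¹ ∈ A) ∧
      (∀ a ∈ A, g₀⁻¹ * a * g₀ ∈ A) ∧ (∀ a ∈ A, y⁻¹ * a * y ∈ A) := by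
  obtain ⟨A, hne, hc, hx1, hy1, hx2, hy2⟩ := exists_abelian_normalized _ _ h1 hs
  refine ⟨A.comap (pr F), ?_, ?_, ?_, ?_, ?_, ?_⟩
  · obtain ⟨⟨a, haA⟩, ha1⟩ := (Subgroup.ne_bot_iff_exists_ne_one).1 hne
    obtain ⟨m, rfl⟩ := pr_surjective a
    have hm : pr F m ≠ 1 := by
      intro h
      apply ha1
      exact Subtype.ext h
    refine ⟨m, haA, ?_, ?_⟩
    · rintro rfl
      exact hm (map_one _)
    · rintro rfl
      exact hm pr_negOne
  · intro a ha b hb
    have := hc _ ha _ hb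
    rw [← map_mul, ← map_mul, eq_comm, pr_eq_iff] at this
    exact this
  · intro a ha
    have := hx1 _ ha
    rw [mem_comap, map_mul, map_mul, map_inv]
    exact this
  · intro a ha
    have := hy1 _ ha
    rw [mem_comap, map_mul, map_mul, map_inv]
    exact this
  · intro a ha
    have := hx2 _ ha
    rw [mem_comap, map_mul, map_mul, map_inv]
    exact this
  · intro a ha
    have := hy2 _ ha
    rw [mem_comap, map_mul, map_mul, map_inv]
    exact this

/-- Anticommuting elements of `SL₂` are traceless (characteristic not two). -/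
theorem trace_zero_of_anticomm (h2 : (2 : F) ≠ 0) {a b c d p q r s : F}
    (hg : a * d - b * c = 1) (hm : p * s - q * r = 1)
    (h : mk2 a b c d hg * mk2 p q r s hm = negOne F * (mk2 p q r s hm * mk2 a b c d hg)) :
    a + d = 0 ∧ p + s = 0 := by
  simp only [mk2_mul, negOne_mul, mk2_inj] at h
  obtain ⟨e1, e2, e3, e4⟩ := h
  constructor
  · have : 2 * (a + d) = 0 := by
      linear_combination s * e1 - r * e2 - q * e3 + p * e4 - 2 * (a + d) * hm
    exact (mul_eq_zero.1 this).resolve_left h2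
  · have : 2 * (p + s) = 0 := by
      linear_combination d * e1 - c * e2 - b * e3 + a * e4 - 2 * (p + s) * hg
    exact (mul_eq_zero.1 this).resolve_left h2

/-- In a field where `-1` is not a square, a sum of two squares vanishes only trivially. -/
theorem eq_zero_of_sq_add_sq (hns : ∀ z : F, z * z ≠ -1) {u v : F} (h : u * u + v * v = 0) :
    u = 0 ∧ v = 0 := by
  by_cases hv : v = 0
  · subst hv
    rw [mul_zero, add_zero] at h
    exact ⟨mul_self_eq_zero.1 h, rfl⟩
  · exfalso
    apply hns (u / v)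
    field_simp
    linear_combination h

/-- The standard lift of an involution. -/
def wE (F : Type*) [Field F] : Matrix.SpecialLinearGroup (Fin 2) F := mk2 0 1 (-1) 0 (by ring)

/-- Rotation-type elements `[[α, β], [-β, α]]`. -/
def rot (α β : F) (h : α * α - β * (-β) = 1) : Matrix.SpecialLinearGroup (Fin 2) F :=
  mk2 α β (-β) α h

end Cfsg.Agent.Lib.Helper5.PSL2Solv3
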