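import Mathlib
import Cfsg.Agent.Lib.Helper5.PSL2Solv3.Basic3
import Cfsg.Agent.Lib.Helper5.PSL2Solv.Split

set_option autoImplicit false

namespace Cfsg.Agent.Lib.Helper5.PSL2Solv3

open Matrix Subgroup
open Cfsg.Agent.Lib.Helper5.PSL2Solv Cfsg.Agent.Lib.Helper5.AutPSL2

variable {F : Type*} [Field F]

theorem two_ne_zero_of_hns (hns : ∀ z : F, z * z ≠ -1) : (2 : F) ≠ 0 := by
  intro h2
  apply hns 1
  linear_combination h2

theorem conj_dg {l u : F} (hx : l * u - 0 * 0 = 1) (p q r s : F) (hm : p * s - q * r = 1) :
    mk2 l 0 0 u hx * mk2 p q r s hm * (mk2 l 0 0 u hx)⁻¹ =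
      mk2 p (l * l * q) (u * u * r) s (by
        have hlu : l * u = 1 := by linear_combination hx
        linear_combination hm - q * r * (l * u + 1) * hlu) := by
  have hlu : l * u = 1 := by linear_combination hx
  simp only [mk2_inv, mk2_mul, mk2_inj]
  refine ⟨?_, ?_, ?_, ?_⟩
  · linear_combination p * hlu
  · ring
  · ring
  · linear_combination s * hlu

theorem split3_only (h3 : (3 : F) = 0) (hns : ∀ z : F, z * z ≠ -1) {l u : F}
    (hx : l * u - 0 * 0 = 1) (hl : l * l ≠ 1) {a b c d : F} (h : a * d - b * c = 1)
    (hs : SolvP (mk2 l 0 0 u hx) (mk2 a b c d h)) : c = 0 ∨ b = 0 ∨ (a = 0 ∧ d = 0) := by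
  have hlu : l * u = 1 := by linear_combination hx
  have h2 : (2 : F) ≠ 0 := two_ne_zero_of_hns hns
  have hLU : (l * l) * (u * u) = 1 := by linear_combination (l * u + 1) * hlu
  have hu1 : u * u ≠ 1 := by
    intro hu
    apply hl
    linear_combination hLU - l * l * hu
  have hL4 : (l * l) * (l * l) ≠ 1 := by
    intro h4
    have : (l * l - 1) * (l * l + 1) = 0 := by linear_combination h4
    rcases mul_eq_zero.1 this with h0 | h0
    · exact hl (by linear_combination h0)
    · exact hns l (by linear_combination h0)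
  have hLneU : l * l ≠ u * u := by
    intro he
    apply hL4
    linear_combination hLU + l * l * he
  have hL4U4 : (l * l) * (l * l) ≠ (u * u) * (u * u) := by
    intro he
    have h8 : ((l * l) * (l * l)) * ((l * l) * (l * l)) = 1 := by
      linear_combination (l * l * (l * l)) * he + (l * l * (u * u) + 1) * hLU
    have : ((l * l) * (l * l) - 1) * ((l * l) * (l * l) + 1) = 0 := by linear_combination h8
    rcases mul_eq_zero.1 this with h0 | h0
    · exact hL4 (by linear_combination h0)
    · exact hns (l * l) (by linear_combination h0)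
  have hpr : pr F (mk2 l 0 0 u hx) ≠ 1 := by
    rw [Ne, pr_eq_one_iff]
    rintro (h1 | h1)
    · rw [mk2_one, mk2_inj] at h1
      apply hl
      rw [h1.1, mul_one]
    · rw [negOne, mk2_inj] at h1
      apply hl
      rw [h1.1]
      ring
  obtain ⟨A, ⟨m, hmA, hm1, hm2⟩, hcomm, hcx, hcy, -, -⟩ := exists_normalized_lift _ _ hpr hs
  obtain ⟨m₁, m₂, m₃, m₄, hm, rfl⟩ := exists_mk2 m
  -- first conjugate
  have hn := hcx _ hmA
  rw [conj_dg] at hn
  rcases hcomm _ hn _ hmA with hc | hc
  · -- commuting case
    simp only [mk2_mul, mk2_inj] at hc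
    obtain ⟨e1, e2, e3, -⟩ := hc
    have k1 : m₂ * m₃ = 0 := by
      have : (l * l - u * u) * (m₂ * m₃) = 0 := by linear_combination e1
      exact (mul_eq_zero.1 this).resolve_left (sub_ne_zero.2 hLneU)
    have k2 : m₂ * (m₄ - m₁) = 0 := by
      have : (l * l - 1) * (m₂ * (m₄ - m₁)) = 0 := by linear_combination e2
      exact (mul_eq_zero.1 this).resolve_left (sub_ne_zero.2 hl)
    have k3 : m₃ * (m₄ - m₁) = 0 := by
      have : (u * u - 1) * (m₃ * (m₄ - m₁)) = 0 := by linear_combination (-1 : F) * e3
      exact (mul_eq_zero.1 this).resolve_left (sub_ne_zero.2 hu1)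
    have hny := hcy _ hmA
    by_cases hm₂ : m₂ = 0
    · by_cases hm₃ : m₃ = 0
      · -- diagonal `m`
        subst hm₂ hm₃
        have hne : m₁ ≠ m₄ := by
          intro he
          subst he
          have : (m₁ - 1) * (m₁ + 1) = 0 := by linear_combination hm
          rcases mul_eq_zero.1 this with h0 | h0
          · apply hm1
            rw [mk2_one, mk2_inj]
            exact ⟨by linear_combination h0, rfl, rfl, by linear_combination h0⟩
          · apply hm2
            rw [negOne, mk2_inj]
            exact ⟨by linear_combination h0, rfl, rfl, by linear_combination h0⟩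
        rcases hcomm _ hny _ hmA with hc | hc
        · simp only [mk2_mul, mk2_inv, mk2_inj] at hc
          obtain ⟨-, f2, f3, -⟩ := hc
          have g1 : a * b = 0 := by
            have : (m₁ - m₄) * (m₁ - m₄) * (a * b) = 0 := by linear_combination f2
            rcases mul_eq_zero.1 this with h0 | h0
            · exact absurd (mul_self_eq_zero.1 h0) (sub_ne_zero.2 hne)
            · exact h0
          have g2 : c * d = 0 := by
            have : (m₁ - m₄) * (m₁ - m₄) * (c * d) = 0 := by linear_combination f3
            rcases mul_eq_zero.1 this with h0 | h0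
            · exact absurd (mul_self_eq_zero.1 h0) (sub_ne_zero.2 hne)
            · exact h0
          rcases mul_eq_zero.1 g1 with ha | hb
          · right; right
            refine ⟨ha, ?_⟩
            subst ha
            rcases mul_eq_zero.1 g2 with hc0 | hd0
            · subst hc0
              exfalso
              rw [zero_mul, mul_zero, sub_zero] at h
              exact zero_ne_one h
            · exact hd0
          · right; left; exact hb
        · exfalso
          obtain ⟨n₁, n₂, n₃, n₄, hn', hne'⟩ := exists_mk2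
            (mk2 a b c d h * mk2 m₁ 0 0 m₄ hm * (mk2 a b c d h)⁻¹)
          rw [hne'] at hc
          have := (trace_zero_of_anticomm h2 _ _ hc).2
          apply hns m₁
          linear_combination (-1 : F) * hm + m₁ * this
      · -- lower unipotent-type `m`
        subst hm₂
        have h41 : m₄ = m₁ := by
          have := (mul_eq_zero.1 k3).resolve_left hm₃
          linear_combination this
        subst h41
        right; left
        rcases hcomm _ hny _ hmA with hc | hc
        · simp only [mk2_mul, mk2_inv, mk2_inj] at hc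
          obtain ⟨-, -, -, f4⟩ := hc
          have : m₃ * m₃ * (b * b) = 0 := by linear_combination f4
          rcases mul_eq_zero.1 this with h0 | h0
          · exact absurd (mul_self_eq_zero.1 h0) hm₃
          · exact mul_self_eq_zero.1 h0
        · exfalso
          obtain ⟨n₁, n₂, n₃, n₄, hn', hne'⟩ := exists_mk2
            (mk2 a b c d h * mk2 m₄ 0 m₃ m₄ hm * (mk2 a b c d h)⁻¹)
          rw [hne'] at hc
          have := (trace_zero_of_anticomm h2 _ _ hc).2
          have hm0 : m₄ = 0 := by
            have : 2 * m₄ = 0 := by linear_combination this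
            exact (mul_eq_zero.1 this).resolve_left h2
          subst hm0
          rw [mul_zero, zero_mul, sub_zero] at hm
          exact zero_ne_one hm
    · -- upper unipotent-type `m`
      have hm₃ : m₃ = 0 := (mul_eq_zero.1 k1).resolve_left hm₂
      subst hm₃
      have h41 : m₄ = m₁ := by
        have := (mul_eq_zero.1 k2).resolve_left hm₂
        linear_combination this
      subst h41
      left
      rcases hcomm _ hny _ hmA with hc | hc
      · simp only [mk2_mul, mk2_inv, mk2_inj] at hc
        obtain ⟨f1, -, -, -⟩ := hc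
        have : m₂ * m₂ * (c * c) = 0 := by linear_combination f1
        rcases mul_eq_zero.1 this with h0 | h0
        · exact absurd (mul_self_eq_zero.1 h0) hm₂
        · exact mul_self_eq_zero.1 h0
      · exfalso
        obtain ⟨n₁, n₂, n₃, n₄, hn', hne'⟩ := exists_mk2
          (mk2 a b c d h * mk2 m₄ m₂ 0 m₄ hm * (mk2 a b c d h)⁻¹)
        rw [hne'] at hc
        have := (trace_zero_of_anticomm h2 _ _ hc).2
        have hm0 : m₄ = 0 := by
          have : 2 * m₄ = 0 := by linear_combination this
          exact (mul_eq_zero.1 this).resolve_left h2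
        subst hm0
        rw [mul_zero, mul_zero, sub_zero] at hm
        exact zero_ne_one hm
  · -- anticommuting case: contradiction
    exfalso
    have ht := (trace_zero_of_anticomm h2 _ _ hc).2
    have h41 : m₄ = -m₁ := by linear_combination ht
    subst h41
    simp only [mk2_mul, negOne_mul, mk2_inj] at hc
    obtain ⟨a1, -, -, -⟩ := hc
    have A1 : 2 * (m₁ * m₁) + (l * l + u * u) * (m₂ * m₃) = 0 := by linear_combination a1
    have hn2 := hcx _ hn
    rw [conj_dg] at hn2
    rcases hcomm _ hn2 _ hmA with hc2 | hc2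
    · simp only [mk2_mul, mk2_inj] at hc2
      obtain ⟨e1, -, -, -⟩ := hc2
      have k1 : m₂ * m₃ = 0 := by
        have : (l * l * (l * l) - u * u * (u * u)) * (m₂ * m₃) = 0 := by linear_combination e1
        exact (mul_eq_zero.1 this).resolve_left (sub_ne_zero.2 hL4U4)
      have hm10 : m₁ = 0 := by
        have : 2 * (m₁ * m₁) = 0 := by linear_combination A1 - (l * l + u * u) * k1
        exact mul_self_eq_zero.1 ((mul_eq_zero.1 this).resolve_left h2)
      subst hm10
      apply zero_ne_one (α := F)
      linear_combination hm + k1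
    · simp only [mk2_mul, negOne_mul, mk2_inj] at hc2
      obtain ⟨a2, -, -, -⟩ := hc2
      have A2 : 2 * (m₁ * m₁) + (l * l * (l * l) + u * u * (u * u)) * (m₂ * m₃) = 0 := by
        linear_combination a2
      have hne : m₂ * m₃ ≠ 0 := by
        intro k1
        have hm10 : m₁ = 0 := by
          have : 2 * (m₁ * m₁) = 0 := by linear_combination A1 - (l * l + u * u) * k1
          exact mul_self_eq_zero.1 ((mul_eq_zero.1 this).resolve_left h2)
        subst hm10
        apply zero_ne_one (α := F)
        linear_combination hm + k1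
      have hs1 : l * l + u * u = l * l * (l * l) + u * u * (u * u) := by
        have : (l * l + u * u - (l * l * (l * l) + u * u * (u * u))) * (m₂ * m₃) = 0 := by
          linear_combination A1 - A2
        have := (mul_eq_zero.1 this).resolve_right hne
        linear_combination this
      have hs2 : (l * l + u * u + 1) * (l * l + u * u + 1) = 0 := by
        linear_combination (-1 : F) * hs1 + 2 * hLU + (l * l + u * u + 1) * h3
      have hs3 : l * l + u * u = -1 := by
        have := mul_self_eq_zero.1 hs2
        linear_combination this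
      have hs4 : (l * l - 1) * (l * l - 1) = 0 := by
        linear_combination (l * l) * hs3 - hLU - (l * l) * h3
      apply hl
      have := mul_self_eq_zero.1 hs4
      linear_combination this

theorem wE_inv : (wE F)⁻¹ = mk2 0 (-1) 1 0 (by ring) := by
  rw [wE, mk2_inv, mk2_inj]
  exact ⟨rfl, rfl, by ring, rfl⟩

theorem split3_of {l u : F} (hx : l * u - 0 * 0 = 1) {a b c d : F} (h : a * d - b * c = 1)
    (hc : c = 0 ∨ b = 0 ∨ (a = 0 ∧ d = 0)) :
    SolvP (mk2 l 0 0 u hx) (mk2 a b c d h) := by
  rcases hc with hc | hc | ⟨ha, hd⟩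
  · apply solvP_of_solv
    apply solvable_pair_of_upper
    · exact mk2_mem_borel.2 rfl
    · exact mk2_mem_borel.2 hc
  · subst hc
    have h1 : SolvP (wE F * mk2 l 0 0 u hx * (wE F)⁻¹) (wE F * mk2 a 0 c d h * (wE F)⁻¹) := by
      apply solvP_of_solv
      apply solvable_pair_of_upper
      · rw [wE_inv, wE]
        simp only [mk2_mul]
        rw [mk2_mem_borel]
        ring
      · rw [wE_inv, wE]
        simp only [mk2_mul]
        rw [mk2_mem_borel]
        ring
    have h2 := solvP_conj (wE F)⁻¹ _ _ h1
    have e : ∀ g : Matrix.SpecialLinearGroup (Fin 2) F,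
        (wE F)⁻¹ * (wE F * g * (wE F)⁻¹) * (wE F)⁻¹⁻¹ = g := by
      intro g; group
    rwa [e, e] at h2
  · subst ha hd
    apply solvP_swap
    unfold SolvP
    apply solvable_pair_of_inverts
    rw [← map_inv, ← map_mul, ← map_inv, ← map_mul]
    congr 1
    have hlu : l * u = 1 := by linear_combination hx
    simp only [mk2_mul, mk2_inv, mk2_inj]
    refine ⟨?_, ?_, ?_, ?_⟩
    · linear_combination u * h
    · ring
    · ring
    · linear_combination l * h

theorem split3_iff (h3 : (3 : F) = 0) (hns : ∀ z : F, z * z ≠ -1) {l u : F}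
    (hx : l * u - 0 * 0 = 1) (hl : l * l ≠ 1) {a b c d : F} (h : a * d - b * c = 1) :
    SolvP (mk2 l 0 0 u hx) (mk2 a b c d h) ↔ (c = 0 ∨ b = 0 ∨ (a = 0 ∧ d = 0)) :=
  ⟨split3_only h3 hns hx hl h, split3_of hx h⟩

/-- Antidiagonal elements. -/
def famAnti3 (F : Type*) [Field F] (c : Fˣ) : Matrix.SpecialLinearGroup (Fin 2) F :=
  mk2 0 (-(c : F)⁻¹) (c : F) 0 (by
    rw [neg_mul, inv_mul_cancel₀ (Units.ne_zero c)]
    ring)

theorem famAnti3_inj : Function.Injective (famAnti3 F) := by
  intro c c' h
  simp only [famAnti3, mk2_inj] at h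
  exact Units.ext h.2.2.1

theorem split3_set (h3 : (3 : F) = 0) (hns : ∀ z : F, z * z ≠ -1) {l u : F}
    (hx : l * u - 0 * 0 = 1) (hl : l * l ≠ 1) :
    {y : Matrix.SpecialLinearGroup (Fin 2) F | SolvP (mk2 l 0 0 u hx) y} =
    Set.range (famUpper F) ∪ Set.range (famLower F) ∪ Set.range (famAnti3 F) := by
  ext y
  obtain ⟨a, b, c, d, h, rfl⟩ := exists_mk2 y
  rw [Set.mem_ofPred_eq, split3_iff h3 hns hx hl]
  simp only [Set.mem_union, Set.mem_range, Prod.exists]
  constructor
  · intro hc
    by_cases hc0 : c = 0
    · left; left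
      subst hc0
      have ha : a ≠ 0 := by
        rintro rfl
        rw [zero_mul, mul_zero, sub_zero] at h
        exact zero_ne_one h
      refine ⟨Units.mk0 a ha, b, ?_⟩
      show mk2 a b 0 a⁻¹ _ = mk2 a b 0 d h
      refine mk2_inj.2 ⟨rfl, rfl, rfl, ?_⟩
      have : a * d = 1 := by linear_combination h
      exact (eq_inv_of_mul_eq_one_right this).symm
    · rcases hc with hc | hc | ⟨ha, hd⟩
      · exact absurd hc hc0
      · left; right
        subst hc
        have ha : a ≠ 0 := by
          rintro rfl
          rw [zero_mul, zero_mul, sub_zero] at h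
          exact zero_ne_one h
        refine ⟨Units.mk0 a ha, Units.mk0 c hc0, ?_⟩
        show mk2 a 0 c a⁻¹ _ = mk2 a 0 c d h
        refine mk2_inj.2 ⟨rfl, rfl, rfl, ?_⟩
        have : a * d = 1 := by linear_combination h
        exact (eq_inv_of_mul_eq_one_right this).symm
      · right
        subst ha hd
        refine ⟨Units.mk0 c hc0, ?_⟩
        show mk2 0 (-c⁻¹) c 0 _ = mk2 0 b c 0 h
        refine mk2_inj.2 ⟨rfl, ?_, rfl, rfl⟩
        have : (-b) * c = 1 := by linear_combination h
        rw [← eq_inv_of_mul_eq_one_left this, neg_neg]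
  · rintro ((⟨a', b', e⟩ | ⟨a', c', e⟩) | ⟨c', e⟩)
    · simp only [famUpper, mk2_inj] at e
      left; exact e.2.2.1.symm
    · simp only [famLower, mk2_inj] at e
      right; left; exact e.2.1.symm
    · simp only [famAnti3, mk2_inj] at e
      right; right; exact ⟨e.1.symm, e.2.2.2.symm⟩

theorem split3_count [Fintype F] (h3 : (3 : F) = 0) (hns : ∀ z : F, z * z ≠ -1) {l u : F}
    (hx : l * u - 0 * 0 = 1) (hl : l * l ≠ 1) :
    Nat.card {y : Matrix.SpecialLinearGroup (Fin 2) F // SolvP (mk2 l 0 0 u hx) y} =
    2 * (Fintype.card F * (Fintype.card F - 1)) := by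
  classical
  have h0 : Nat.card {y : Matrix.SpecialLinearGroup (Fin 2) F // SolvP (mk2 l 0 0 u hx) y} =
      ({y : Matrix.SpecialLinearGroup (Fin 2) F | SolvP (mk2 l 0 0 u hx) y}).ncard :=
    Nat.card_coe_set_eq _
  obtain ⟨n, hn⟩ : ∃ n, Fintype.card F = n + 1 :=
    Nat.exists_eq_succ_of_ne_zero Fintype.card_ne_zero
  rw [h0, split3_set h3 hns hx hl, ncard_union3, ncard_range_inj _ famUpper_inj,
    ncard_range_inj _ famLower_inj, ncard_range_inj _ famAnti3_inj, Nat.card_prod, Nat.card_prod,
    Nat.card_eq_fintype_card, Nat.card_eq_fintype_card, Fintype.card_units, hn]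
  · simp only [Nat.add_sub_cancel]
    ring
  · rw [Set.disjoint_left]
    rintro y ⟨⟨a, b⟩, rfl⟩ ⟨⟨a', c'⟩, e⟩
    simp only [famUpper, famLower, mk2_inj] at e
    exact Units.ne_zero c' e.2.2.1
  · rw [Set.disjoint_left]
    rintro y ⟨⟨a, b⟩, rfl⟩ ⟨c', e⟩
    simp only [famUpper, famAnti3, mk2_inj] at e
    exact Units.ne_zero c' e.2.2.1
  · rw [Set.disjoint_left]
    rintro y ⟨⟨a, c⟩, rfl⟩ ⟨c', e⟩
    simp only [famLower, famAnti3, mk2_inj] at e
    exact Units.ne_zero a e.1.symm

end Cfsg.Agent.Lib.Helper5.PSL2Solv3
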