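import Mathlib
import Cfsg.Agent.Lib.Helper5.PSL2Solv3.Split3

set_option autoImplicit false

namespace Cfsg.Agent.Lib.Helper5.PSL2Solv3

open Matrix Subgroup
open Cfsg.Agent.Lib.Helper5.PSL2Solv Cfsg.Agent.Lib.Helper5.AutPSL2

variable {F : Type*} [Field F]

/-- Elements of `SL₂(F)` in "quaternion" coordinates with respect to `1, w, J₁, J₂`. -/
def qm (e η u v : F) (h : e * e + η * η - u * u - v * v = 1) :
    Matrix.SpecialLinearGroup (Fin 2) F :=
  mk2 (e + u) (η + v) (-η + v) (e - u) (by linear_combination h)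

theorem qm_inj (h2 : (2 : F) ≠ 0) {e η u v e' η' u' v' : F}
    {h : e * e + η * η - u * u - v * v = 1} {h' : e' * e' + η' * η' - u' * u' - v' * v' = 1} :
    qm e η u v h = qm e' η' u' v' h' ↔ e = e' ∧ η = η' ∧ u = u' ∧ v = v' := by
  constructor
  · intro hq
    rw [qm, qm, mk2_inj] at hq
    obtain ⟨h1, h2', h3, h4⟩ := hq
    refine ⟨?_, ?_, ?_, ?_⟩
    · apply mul_left_cancel₀ h2; linear_combination h1 + h4
    · apply mul_left_cancel₀ h2; linear_combination h2' - h3
    · apply mul_left_cancel₀ h2; linear_combination h1 - h4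
    · apply mul_left_cancel₀ h2; linear_combination h2' + h3
  · rintro ⟨rfl, rfl, rfl, rfl⟩
    rfl

theorem qm_congr {e η u v e' η' u' v' : F}
    {h : e * e + η * η - u * u - v * v = 1} {h' : e' * e' + η' * η' - u' * u' - v' * v' = 1}
    (h1 : e = e') (h2 : η = η') (h3 : u = u') (h4 : v = v') :
    qm e η u v h = qm e' η' u' v' h' := by
  subst h1 h2 h3 h4
  rfl

theorem exists_qm (h2 : (2 : F) ≠ 0) (g : Matrix.SpecialLinearGroup (Fin 2) F) :
    ∃ (e η u v : F) (h : e * e + η * η - u * u - v * v = 1), g = qm e η u v h := by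
  obtain ⟨a, b, c, d, h, rfl⟩ := exists_mk2 g
  refine ⟨(a + d) / 2, (b - c) / 2, (a - d) / 2, (b + c) / 2, ?_, ?_⟩
  · field_simp
    linear_combination 4 * h
  · rw [qm, mk2_inj]
    refine ⟨?_, ?_, ?_, ?_⟩ <;> field_simp <;> ring

theorem qm_mul (e η u v e' η' u' v' : F) (h : e * e + η * η - u * u - v * v = 1)
    (h' : e' * e' + η' * η' - u' * u' - v' * v' = 1) :
    qm e η u v h * qm e' η' u' v' h' =
      qm (e * e' - η * η' + u * u' + v * v') (e * η' + η * e' + u * v' - v * u')
        (e * u' + u * e' + η * v' - v * η') (e * v' + v * e' - η * u' + u * η')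
        (by linear_combination (e' * e' + η' * η' - u' * u' - v' * v') * h + h') := by
  rw [qm, qm, qm, mk2_mul, mk2_inj]
  refine ⟨by ring, by ring, by ring, by ring⟩

theorem qm_inv (e η u v : F) (h : e * e + η * η - u * u - v * v = 1) :
    (qm e η u v h)⁻¹ = qm e (-η) (-u) (-v) (by linear_combination h) := by
  rw [qm, qm, mk2_inv, mk2_inj]
  refine ⟨by ring, by ring, by ring, by ring⟩

theorem qm_one : (1 : Matrix.SpecialLinearGroup (Fin 2) F) = qm 1 0 0 0 (by ring) := by
  rw [qm, mk2_one, mk2_inj]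
  refine ⟨by ring, by ring, by ring, by ring⟩

theorem negOne_eq_qm : negOne F = qm (-1) 0 0 0 (by ring) := by
  rw [qm, negOne, mk2_inj]
  refine ⟨by ring, by ring, by ring, by ring⟩

theorem wE_eq_qm : wE F = qm 0 1 0 0 (by ring) := by
  rw [qm, wE, mk2_inj]
  refine ⟨by ring, by ring, by ring, by ring⟩

theorem rot_eq_qm (α β : F) (h : α * α - β * (-β) = 1) :
    rot α β h = qm α β 0 0 (by linear_combination h) := by
  rw [qm, rot, mk2_inj]
  refine ⟨by ring, by ring, by ring, by ring⟩

theorem negOne_mul_qm (e η u v : F) (h : e * e + η * η - u * u - v * v = 1) :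
    negOne F * qm e η u v h = qm (-e) (-η) (-u) (-v) (by linear_combination h) := by
  rw [negOne_eq_qm, qm_mul]
  apply qm_congr <;> ring

theorem qm_comm (h2 : (2 : F) ≠ 0) {e η u v e' η' u' v' : F}
    {h : e * e + η * η - u * u - v * v = 1} {h' : e' * e' + η' * η' - u' * u' - v' * v' = 1}
    (hc : qm e η u v h * qm e' η' u' v' h' = qm e' η' u' v' h' * qm e η u v h) :
    u * v' - v * u' = 0 ∧ η * v' - v * η' = 0 ∧ u * η' - η * u' = 0 := by
  rw [qm_mul, qm_mul, qm_inj h2] at hc
  obtain ⟨-, c1, c2, c3⟩ := hc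
  refine ⟨?_, ?_, ?_⟩
  · apply mul_left_cancel₀ h2; linear_combination c1
  · apply mul_left_cancel₀ h2; linear_combination c2
  · apply mul_left_cancel₀ h2; linear_combination c3

theorem qm_anticomm (h2 : (2 : F) ≠ 0) {e η u v e' η' u' v' : F}
    {h : e * e + η * η - u * u - v * v = 1} {h' : e' * e' + η' * η' - u' * u' - v' * v' = 1}
    (hc : qm e η u v h * qm e' η' u' v' h' = negOne F * (qm e' η' u' v' h' * qm e η u v h)) :
    e = 0 ∧ e' = 0 ∧ -(η * η') + u * u' + v * v' = 0 := by
  rw [qm_mul, qm_mul, negOne_mul_qm, qm_inj h2] at hc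
  obtain ⟨c0, c1, c2, c3⟩ := hc
  have k0 : e * e' - η * η' + u * u' + v * v' = 0 := by
    apply mul_left_cancel₀ h2; linear_combination c0
  have k1 : e * η' + η * e' = 0 := by
    apply mul_left_cancel₀ h2; linear_combination c1
  have k2 : e * u' + u * e' = 0 := by
    apply mul_left_cancel₀ h2; linear_combination c2
  have k3 : e * v' + v * e' = 0 := by
    apply mul_left_cancel₀ h2; linear_combination c3
  have he : e = 0 := by
    linear_combination (-e) * h' + e' * k0 + η' * k1 - u' * k2 - v' * k3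
  have he' : e' = 0 := by
    linear_combination (-e') * h + e * k0 + η * k1 - u * k2 - v * k3
  refine ⟨he, he', ?_⟩
  rw [he, he'] at k0
  linear_combination k0

theorem conj_rot_qm (α β : F) (hr : α * α - β * (-β) = 1) (e η u v : F)
    (h : e * e + η * η - u * u - v * v = 1) :
    rot α β hr * qm e η u v h * (rot α β hr)⁻¹ =
      qm e η ((α * α - β * β) * u + 2 * α * β * v) ((α * α - β * β) * v - 2 * α * β * u)
        (by linear_combination h - (u * u + v * v) * (α * α + β * β + 1) * hr) := by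
  rw [rot_eq_qm, qm_inv, qm_mul, qm_mul]
  apply qm_congr
  · linear_combination e * hr
  · linear_combination η * hr
  · ring
  · ring

theorem conj_qm_wE (e η u v : F) (h : e * e + η * η - u * u - v * v = 1) :
    qm e η u v h * wE F * (qm e η u v h)⁻¹ =
      qm 0 (e * e + η * η + u * u + v * v) (2 * (η * u - e * v)) (2 * (η * v + e * u))
        (by linear_combination (e * e + η * η - u * u - v * v + 1) * h) := by
  rw [wE_eq_qm, qm_inv, qm_mul, qm_mul]
  apply qm_congr <;> ring

/-- If `y w y⁻¹` commutes with `w` then `y` is a rotation or a reflection. -/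
theorem rot_or_refl_of_comm (hns : ∀ z : F, z * z ≠ -1) {e η u v : F}
    (k1 : η * u - e * v = 0) (k2 : η * v + e * u = 0) : (e = 0 ∧ η = 0) ∨ (u = 0 ∧ v = 0) := by
  have h1 : (e * e + η * η) * u = 0 := by linear_combination η * k1 + e * k2
  have h2 : (e * e + η * η) * v = 0 := by linear_combination η * k2 - e * k1
  by_cases h0 : e * e + η * η = 0
  · left
    exact eq_zero_of_sq_add_sq hns h0
  · right
    exact ⟨(mul_eq_zero.1 h1).resolve_left h0, (mul_eq_zero.1 h2).resolve_left h0⟩

end Cfsg.Agent.Lib.Helper5.PSL2Solv3
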