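import Mathlib
import Cfsg.Agent.Lib.Helper5.PSL2Solv3.Quat3

set_option autoImplicit false

namespace Cfsg.Agent.Lib.Helper5.PSL2Solv3

open Matrix Subgroup
open Cfsg.Agent.Lib.Helper5.PSL2Solv Cfsg.Agent.Lib.Helper5.AutPSL2

variable {F : Type*} [Field F]

/-- Conjugating an element of `F[w]` by `y`. -/
theorem conj_qm_Fw (e₁ η₁ u₁ v₁ : F) (hy : e₁ * e₁ + η₁ * η₁ - u₁ * u₁ - v₁ * v₁ = 1) (e η : F)
    (hm : e * e + η * η - 0 * 0 - 0 * 0 = 1) :
    qm e₁ η₁ u₁ v₁ hy * qm e η 0 0 hm * (qm e₁ η₁ u₁ v₁ hy)⁻¹ =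
      qm e (η * (e₁ * e₁ + η₁ * η₁ + u₁ * u₁ + v₁ * v₁)) (η * (2 * (η₁ * u₁ - e₁ * v₁)))
        (η * (2 * (η₁ * v₁ + e₁ * u₁)))
        (by linear_combination hm +
          η * η * (e₁ * e₁ + η₁ * η₁ - u₁ * u₁ - v₁ * v₁ + 1) * hy) := by
  rw [qm_inv, qm_mul, qm_mul]
  apply qm_congr
  · linear_combination e * hy
  · ring
  · ring
  · ring

theorem qm_ne_of_ne {e η : F} (hm : e * e + η * η - 0 * 0 - 0 * 0 = 1)
    (h1 : qm e η 0 0 hm ≠ 1) (h2 : qm e η 0 0 hm ≠ negOne F) : η ≠ 0 := by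
  rintro rfl
  have : (e - 1) * (e + 1) = 0 := by linear_combination hm
  rcases mul_eq_zero.1 this with h0 | h0
  · apply h1
    rw [qm_one]
    apply qm_congr (by linear_combination h0) rfl rfl rfl
  · apply h2
    rw [negOne_eq_qm]
    apply qm_congr (by linear_combination h0) rfl rfl rfl

theorem rot3_only (h3 : (3 : F) = 0) (hns : ∀ z : F, z * z ≠ -1) {α β : F}
    (hr : α * α - β * (-β) = 1) (hα : α ≠ 0) (hβ : β ≠ 0) {e₁ η₁ u₁ v₁ : F}
    (hy : e₁ * e₁ + η₁ * η₁ - u₁ * u₁ - v₁ * v₁ = 1)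
    (hs : SolvP (rot α β hr) (qm e₁ η₁ u₁ v₁ hy)) :
    (e₁ = 0 ∧ η₁ = 0) ∨ (u₁ = 0 ∧ v₁ = 0) := by
  have h2 : (2 : F) ≠ 0 := two_ne_zero_of_hns hns
  have hβ₂ : 2 * α * β ≠ 0 := mul_ne_zero (mul_ne_zero h2 hα) hβ
  have hα₂ : α * α - β * β ≠ 0 := by
    intro h0
    apply hns α
    linear_combination (α * α) * h3 - hr - h0
  have hαβ : (α * α - β * β) * (α * α - β * β) + (2 * α * β) * (2 * α * β) = 1 := by
    linear_combination (α * α + β * β + 1) * hr
  have hpr : pr F (rot α β hr) ≠ 1 := by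
    rw [Ne, pr_eq_one_iff]
    rintro (h1 | h1)
    · rw [rot_eq_qm, qm_one, qm_inj h2] at h1
      exact hβ h1.2.1
    · rw [rot_eq_qm, negOne_eq_qm, qm_inj h2] at h1
      exact hβ h1.2.1
  obtain ⟨A, ⟨m, hmA, hm1, hm2⟩, hcomm, hcx, hcy, -, -⟩ := exists_normalized_lift _ _ hpr hs
  obtain ⟨e, η, u, v, hm, rfl⟩ := exists_qm h2 m
  have hn := hcx _ hmA
  rw [conj_rot_qm] at hn
  rcases hcomm _ hn _ hmA with hc | hc
  · -- `m` lies in `F[w]`
    obtain ⟨c1, -, -⟩ := qm_comm h2 hc
    have hN : u * u + v * v = 0 := by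
      have : (2 * α * β) * (u * u + v * v) = 0 := by linear_combination c1
      exact (mul_eq_zero.1 this).resolve_left hβ₂
    obtain ⟨hu, hv⟩ := eq_zero_of_sq_add_sq hns hN
    subst hu hv
    have hη : η ≠ 0 := qm_ne_of_ne hm hm1 hm2
    have hny := hcy _ hmA
    rw [conj_qm_Fw] at hny
    rcases hcomm _ hny _ hmA with hc' | hc'
    · obtain ⟨-, d2, d3⟩ := qm_comm h2 hc'
      apply rot_or_refl_of_comm hns
      · have : η * η * 2 * (η₁ * u₁ - e₁ * v₁) = 0 := by linear_combination d3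
        have := (mul_eq_zero.1 this).resolve_left (mul_ne_zero (mul_ne_zero hη hη) h2)
        exact this
      · have : η * η * 2 * (η₁ * v₁ + e₁ * u₁) = 0 := by linear_combination (-1 : F) * d2
        have := (mul_eq_zero.1 this).resolve_left (mul_ne_zero (mul_ne_zero hη hη) h2)
        exact this
    · exfalso
      obtain ⟨-, he, d1⟩ := qm_anticomm h2 hc'
      subst he
      have hE : e₁ * e₁ + η₁ * η₁ + u₁ * u₁ + v₁ * v₁ = 0 := by
        have : η * η * (e₁ * e₁ + η₁ * η₁ + u₁ * u₁ + v₁ * v₁) = 0 := by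
          linear_combination (-1 : F) * d1
        exact (mul_eq_zero.1 this).resolve_left (mul_ne_zero hη hη)
      -- the element `j`
      obtain ⟨X, hX⟩ : ∃ X : F, X = η * (2 * (η₁ * u₁ - e₁ * v₁)) := ⟨_, rfl⟩
      obtain ⟨Y, hY⟩ : ∃ Y : F, Y = η * (2 * (η₁ * v₁ + e₁ * u₁)) := ⟨_, rfl⟩
      have hj : ∃ hj' : (0 : F) * 0 + 0 * 0 - X * X - Y * Y = 1, qm 0 0 X Y hj' ∈ A := by
        have e0 : η * (e₁ * e₁ + η₁ * η₁ + u₁ * u₁ + v₁ * v₁) = 0 := by rw [hE, mul_zero]
        have hnorm : (0 : F) * 0 + 0 * 0 - X * X - Y * Y = 1 := by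
          rw [hX, hY]
          linear_combination hm +
            η * η * (e₁ * e₁ + η₁ * η₁ - u₁ * u₁ - v₁ * v₁ + 1) * hy -
            η * η * (e₁ * e₁ + η₁ * η₁ + u₁ * u₁ + v₁ * v₁) * hE
        refine ⟨hnorm, ?_⟩
        convert hny using 1
        apply qm_congr rfl e0.symm hX hY
      obtain ⟨hj', hjA⟩ := hj
      have hk := hcx _ hjA
      rw [conj_rot_qm] at hk
      have hXY : X * X + Y * Y ≠ 0 := by
        intro h0
        apply zero_ne_one (α := F)
        linear_combination hj' + h0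
      rcases hcomm _ hk _ hjA with hc'' | hc''
      · obtain ⟨f1, -, -⟩ := qm_comm h2 hc''
        have : (2 * α * β) * (X * X + Y * Y) = 0 := by linear_combination f1
        exact hXY ((mul_eq_zero.1 this).resolve_left hβ₂)
      · obtain ⟨-, -, f1⟩ := qm_anticomm h2 hc''
        have : (α * α - β * β) * (X * X + Y * Y) = 0 := by linear_combination f1
        exact hXY ((mul_eq_zero.1 this).resolve_left hα₂)
  · -- anticommuting first conjugate: contradiction
    exfalso
    obtain ⟨-, he, a1⟩ := qm_anticomm h2 hc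
    subst he
    have A1 : η * η = (α * α - β * β) * (u * u + v * v) := by linear_combination (-1 : F) * a1
    have hN : u * u + v * v ≠ 0 := by
      intro h0
      have : η * η = 0 := by rw [A1, h0, mul_zero]
      apply zero_ne_one (α := F)
      linear_combination hm - this + h0
    have hn2 := hcx _ hn
    rw [conj_rot_qm] at hn2
    rcases hcomm _ hn2 _ hmA with hc2 | hc2
    · obtain ⟨c1, -, -⟩ := qm_comm h2 hc2
      have : 2 * ((α * α - β * β) * (2 * α * β)) * (u * u + v * v) = 0 := by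
        linear_combination c1
      exact hN ((mul_eq_zero.1 this).resolve_left
        (mul_ne_zero h2 (mul_ne_zero hα₂ hβ₂)))
    · obtain ⟨-, -, a2⟩ := qm_anticomm h2 hc2
      have A2 : η * η = ((α * α - β * β) * (α * α - β * β) - (2 * α * β) * (2 * α * β)) *
          (u * u + v * v) := by linear_combination (-1 : F) * a2
      have h5 : (α * α - β * β) = (α * α - β * β) * (α * α - β * β) - (2 * α * β) * (2 * α * β) := by
        have : ((α * α - β * β) - ((α * α - β * β) * (α * α - β * β) -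
            (2 * α * β) * (2 * α * β))) * (u * u + v * v) = 0 := by
          linear_combination A2 - A1
        have := (mul_eq_zero.1 this).resolve_right hN
        linear_combination this
      have h6 : 2 * ((α * α - β * β - 1) * (α * α - β * β - 1)) = 0 := by
        linear_combination (-1 : F) * h5 + hαβ + (1 - (α * α - β * β)) * h3
      have h7 : α * α - β * β = 1 := by
        have := mul_self_eq_zero.1 ((mul_eq_zero.1 h6).resolve_left h2)
        linear_combination this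
      have h8 : (2 * α * β) * (2 * α * β) = 0 := by
        linear_combination hαβ - (α * α - β * β + 1) * h7
      exact hβ₂ (mul_self_eq_zero.1 h8)

theorem conj_wE_qm (e η u v : F) (h : e * e + η * η - u * u - v * v = 1) :
    wE F * qm e η u v h * (wE F)⁻¹ = qm e η (-u) (-v) (by linear_combination h) := by
  rw [wE_eq_qm, qm_inv, qm_mul, qm_mul]
  apply qm_congr <;> ring

/-- Conjugating an element with zero `w`-component. -/
theorem conj_qm_P (e₁ η₁ u₁ v₁ : F) (hy : e₁ * e₁ + η₁ * η₁ - u₁ * u₁ - v₁ * v₁ = 1) (e u v : F)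
    (hm : e * e + 0 * 0 - u * u - v * v = 1) :
    qm e₁ η₁ u₁ v₁ hy * qm e 0 u v hm * (qm e₁ η₁ u₁ v₁ hy)⁻¹ =
      qm e (2 * (e₁ * (u₁ * v - v₁ * u) - η₁ * (u₁ * u + v₁ * v)))
        (u * (e₁ * e₁ - η₁ * η₁ - u₁ * u₁ + v₁ * v₁) + 2 * v * (e₁ * η₁ - u₁ * v₁))
        (v * (e₁ * e₁ - η₁ * η₁ + u₁ * u₁ - v₁ * v₁) - 2 * u * (e₁ * η₁ + u₁ * v₁))
        (by linear_combination hm -
          (u * u + v * v) * (e₁ * e₁ + η₁ * η₁ - u₁ * u₁ - v₁ * v₁ + 1) * hy) := by
  rw [qm_inv, qm_mul, qm_mul]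
  apply qm_congr
  · linear_combination e * hy
  · ring
  · ring
  · ring

theorem qm_sq (e₁ η₁ u₁ v₁ : F) (hy : e₁ * e₁ + η₁ * η₁ - u₁ * u₁ - v₁ * v₁ = 1) :
    qm e₁ η₁ u₁ v₁ hy * qm e₁ η₁ u₁ v₁ hy =
      qm (2 * (e₁ * e₁) - 1) (2 * e₁ * η₁) (2 * e₁ * u₁) (2 * e₁ * v₁)
        (by linear_combination (4 * (e₁ * e₁)) * hy) := by
  rw [qm_mul]
  apply qm_congr
  · linear_combination (-1 : F) * hy
  · ring
  · ring
  · ring

theorem wE3_only (h3 : (3 : F) = 0) (hns : ∀ z : F, z * z ≠ -1) {e₁ η₁ u₁ v₁ : F}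
    (hy : e₁ * e₁ + η₁ * η₁ - u₁ * u₁ - v₁ * v₁ = 1)
    (hs : SolvP (wE F) (qm e₁ η₁ u₁ v₁ hy)) :
    (u₁ = 0 ∧ v₁ = 0) ∨ e₁ = 0 ∨ η₁ = 0 ∨ (e₁ * e₁ = 1 ∧ η₁ * η₁ = 1) := by
  have h2 : (2 : F) ≠ 0 := two_ne_zero_of_hns hns
  have hpr : pr F (wE F) ≠ 1 := by
    rw [Ne, pr_eq_one_iff]
    rintro (h1 | h1)
    · rw [wE_eq_qm, qm_one, qm_inj h2] at h1
      exact one_ne_zero h1.2.1
    · rw [wE_eq_qm, negOne_eq_qm, qm_inj h2] at h1
      exact one_ne_zero h1.2.1
  obtain ⟨A, ⟨m, hmA, hm1, hm2⟩, hcomm, hcx, hcy, -, -⟩ := exists_normalized_lift _ _ hpr hs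
  -- every element of `A` lies in `F[w]` or has zero `w`-component
  have typ : ∀ (e η u v : F) (hm : e * e + η * η - u * u - v * v = 1), qm e η u v hm ∈ A →
      (u = 0 ∧ v = 0) ∨ η = 0 := by
    intro e η u v hm hmA
    have hn := hcx _ hmA
    rw [conj_wE_qm] at hn
    rcases hcomm _ hn _ hmA with hc | hc
    · obtain ⟨-, c2, c3⟩ := qm_comm h2 hc
      by_cases hη : η = 0
      · right; exact hη
      · left
        constructor
        · have : (2 * η) * u = 0 := by linear_combination (-1 : F) * c3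
          exact (mul_eq_zero.1 this).resolve_left (mul_ne_zero h2 hη)
        · have : (2 * η) * v = 0 := by linear_combination c2
          exact (mul_eq_zero.1 this).resolve_left (mul_ne_zero h2 hη)
    · exfalso
      obtain ⟨he, -, a1⟩ := qm_anticomm h2 hc
      subst he
      apply hns η
      linear_combination (η * η) * h3 - hm + a1
  by_cases hex : ∃ (e η : F) (hm : e * e + η * η - 0 * 0 - 0 * 0 = 1),
      qm e η 0 0 hm ∈ A ∧ qm e η 0 0 hm ≠ 1 ∧ qm e η 0 0 hm ≠ negOne F
  · -- an element of `F[w]` in `A`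
    obtain ⟨e, η, hm, hmA, hm1, hm2⟩ := hex
    have hη : η ≠ 0 := qm_ne_of_ne hm hm1 hm2
    have hny := hcy _ hmA
    have hny2 := hcy _ hny
    rw [conj_qm_Fw] at hny
    rcases hcomm _ hny _ hmA with hc' | hc'
    · obtain ⟨-, d2, d3⟩ := qm_comm h2 hc'
      have hh := rot_or_refl_of_comm hns (e := e₁) (η := η₁) (u := u₁) (v := v₁)
        (by
          have : η * η * 2 * (η₁ * u₁ - e₁ * v₁) = 0 := by linear_combination d3
          exact (mul_eq_zero.1 this).resolve_left (mul_ne_zero (mul_ne_zero hη hη) h2))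
        (by
          have : η * η * 2 * (η₁ * v₁ + e₁ * u₁) = 0 := by linear_combination (-1 : F) * d2
          exact (mul_eq_zero.1 this).resolve_left (mul_ne_zero (mul_ne_zero hη hη) h2))
      rcases hh with hh | hh
      · right; left; exact hh.1
      · left; exact hh
    · obtain ⟨-, he, d1⟩ := qm_anticomm h2 hc'
      subst he
      have hE : e₁ * e₁ + η₁ * η₁ + u₁ * u₁ + v₁ * v₁ = 0 := by
        have : η * η * (e₁ * e₁ + η₁ * η₁ + u₁ * u₁ + v₁ * v₁) = 0 := by
          linear_combination (-1 : F) * d1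
        exact (mul_eq_zero.1 this).resolve_left (mul_ne_zero hη hη)
      -- conjugate by `y ^ 2`
      have e2 : qm e₁ η₁ u₁ v₁ hy * (qm e₁ η₁ u₁ v₁ hy * qm 0 η 0 0 hm * (qm e₁ η₁ u₁ v₁ hy)⁻¹) *
          (qm e₁ η₁ u₁ v₁ hy)⁻¹ = (qm e₁ η₁ u₁ v₁ hy * qm e₁ η₁ u₁ v₁ hy) * qm 0 η 0 0 hm *
          (qm e₁ η₁ u₁ v₁ hy * qm e₁ η₁ u₁ v₁ hy)⁻¹ := by group
      rw [e2, qm_sq, conj_qm_Fw] at hny2
      rcases hcomm _ hny2 _ hmA with hc2 | hc2
      · obtain ⟨-, f2, f3⟩ := qm_comm h2 hc2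
        have hh := rot_or_refl_of_comm hns (e := 2 * (e₁ * e₁) - 1) (η := 2 * e₁ * η₁)
          (u := 2 * e₁ * u₁) (v := 2 * e₁ * v₁)
          (by
            have : η * η * 2 * ((2 * e₁ * η₁) * (2 * e₁ * u₁) -
                (2 * (e₁ * e₁) - 1) * (2 * e₁ * v₁)) = 0 := by linear_combination f3
            exact (mul_eq_zero.1 this).resolve_left (mul_ne_zero (mul_ne_zero hη hη) h2))
          (by
            have : η * η * 2 * ((2 * e₁ * η₁) * (2 * e₁ * v₁) +
                (2 * (e₁ * e₁) - 1) * (2 * e₁ * u₁)) = 0 := by linear_combination (-1 : F) * f2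
            exact (mul_eq_zero.1 this).resolve_left (mul_ne_zero (mul_ne_zero hη hη) h2))
        rcases hh with ⟨k1, k2⟩ | ⟨k1, k2⟩
        · -- `2 e₁² = 1` and `e₁ η₁ = 0`
          right; right; left
          have he₁ : e₁ ≠ 0 := by
            rintro rfl
            apply one_ne_zero (α := F)
            linear_combination (-1 : F) * k1
          have : (2 * e₁) * η₁ = 0 := by linear_combination k2
          exact (mul_eq_zero.1 this).resolve_left (mul_ne_zero h2 he₁)
        · by_cases he₁ : e₁ = 0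
          · right; left; exact he₁
          · left
            constructor
            · have : (2 * e₁) * u₁ = 0 := by linear_combination k1
              exact (mul_eq_zero.1 this).resolve_left (mul_ne_zero h2 he₁)
            · have : (2 * e₁) * v₁ = 0 := by linear_combination k2
              exact (mul_eq_zero.1 this).resolve_left (mul_ne_zero h2 he₁)
      · obtain ⟨-, -, g1⟩ := qm_anticomm h2 hc2
        right; right; right
        have hE2 : (2 * (e₁ * e₁) - 1) * (2 * (e₁ * e₁) - 1) + (2 * e₁ * η₁) * (2 * e₁ * η₁) +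
            (2 * e₁ * u₁) * (2 * e₁ * u₁) + (2 * e₁ * v₁) * (2 * e₁ * v₁) = 0 := by
          have : η * η * ((2 * (e₁ * e₁) - 1) * (2 * (e₁ * e₁) - 1) +
              (2 * e₁ * η₁) * (2 * e₁ * η₁) +
              (2 * e₁ * u₁) * (2 * e₁ * u₁) + (2 * e₁ * v₁) * (2 * e₁ * v₁)) = 0 := by
            linear_combination (-1 : F) * g1
          exact (mul_eq_zero.1 this).resolve_left (mul_ne_zero hη hη)
        have he1 : e₁ * e₁ = 1 := by
          linear_combination (-1 : F) * hE2 + 4 * (e₁ * e₁) * hE - (e₁ * e₁) * h3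
        refine ⟨he1, ?_⟩
        linear_combination 2 * hy + 2 * hE - 4 * he1 - (η₁ * η₁ + 1) * h3
  · -- no element of `F[w]` in `A` besides `±1`
    obtain ⟨e, η, u, v, hm, rfl⟩ := exists_qm h2 m
    have hnot : ∀ (e η : F) (hm : e * e + η * η - 0 * 0 - 0 * 0 = 1), qm e η 0 0 hm ∈ A →
        η = 0 := by
      intro e η hm hA
      by_contra hη
      apply hex
      refine ⟨e, η, hm, hA, ?_, ?_⟩
      · rw [qm_one, Ne, qm_inj h2]
        exact fun h => hη h.2.1
      · rw [negOne_eq_qm, Ne, qm_inj h2]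
        exact fun h => hη h.2.1
    have hη0 : η = 0 := by
      rcases typ e η u v hm hmA with ⟨hu, hv⟩ | hη
      · subst hu hv
        exact hnot e η hm hmA
      · exact hη
    subst hη0
    have hN : u * u + v * v ≠ 0 := by
      intro h0
      obtain ⟨hu, hv⟩ := eq_zero_of_sq_add_sq hns h0
      subst hu hv
      have : (e - 1) * (e + 1) = 0 := by linear_combination hm
      rcases mul_eq_zero.1 this with h0 | h0
      · apply hm1
        rw [qm_one]
        apply qm_congr (by linear_combination h0) rfl rfl rfl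
      · apply hm2
        rw [negOne_eq_qm]
        apply qm_congr (by linear_combination h0) rfl rfl rfl
    have hny := hcy _ hmA
    rw [conj_qm_P] at hny
    obtain ⟨W, hW⟩ : ∃ W : F, W = 2 * (e₁ * (u₁ * v - v₁ * u) - η₁ * (u₁ * u + v₁ * v)) :=
      ⟨_, rfl⟩
    obtain ⟨P, hP⟩ : ∃ P : F, P = u * (e₁ * e₁ - η₁ * η₁ - u₁ * u₁ + v₁ * v₁) +
      2 * v * (e₁ * η₁ - u₁ * v₁) := ⟨_, rfl⟩
    obtain ⟨Q, hQ⟩ : ∃ Q : F, Q = v * (e₁ * e₁ - η₁ * η₁ + u₁ * u₁ - v₁ * v₁) -
      2 * u * (e₁ * η₁ + u₁ * v₁) := ⟨_, rfl⟩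
    have hn' : ∃ hnn : e * e + W * W - P * P - Q * Q = 1, qm e W P Q hnn ∈ A := by
      have hnorm : e * e + W * W - P * P - Q * Q = 1 := by
        rw [hW, hP, hQ]
        linear_combination hm -
          (u * u + v * v) * (e₁ * e₁ + η₁ * η₁ - u₁ * u₁ - v₁ * v₁ + 1) * hy
      refine ⟨hnorm, ?_⟩
      convert hny using 1
      apply qm_congr rfl hW hP hQ
    obtain ⟨hnn, hnA⟩ := hn'
    -- `W = 0`
    have hW0 : W = 0 := by
      rcases typ e W P Q hnn hnA with ⟨hP0, hQ0⟩ | hW0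
      · subst hP0 hQ0
        exact hnot e W hnn hnA
      · exact hW0
    subst hW0
    rcases hcomm _ hnA _ hmA with hc | hc
    · -- commuting: the algebraic argument
      obtain ⟨c1, -, -⟩ := qm_comm h2 hc
      by_contra hcon
      push Not at hcon
      obtain ⟨-, he₁, hη₁, -⟩ := hcon
      -- a := dot, b := cross
      have hWab : e₁ * (u₁ * v - v₁ * u) = η₁ * (u₁ * u + v₁ * v) := by
        have : 2 * (e₁ * (u₁ * v - v₁ * u) - η₁ * (u₁ * u + v₁ * v)) = 0 := hW.symm
        have := (mul_eq_zero.1 this).resolve_left h2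
        linear_combination this
      have hab : (u₁ * u + v₁ * v) * (u₁ * v - v₁ * u) = e₁ * η₁ * (u * u + v * v) := by
        have : 2 * ((u₁ * u + v₁ * v) * (u₁ * v - v₁ * u) - e₁ * η₁ * (u * u + v * v)) = 0 := by
          rw [hP, hQ] at c1
          linear_combination (-1 : F) * c1
        have := (mul_eq_zero.1 this).resolve_left h2
        linear_combination this
      have ha2 : (u₁ * u + v₁ * v) * (u₁ * u + v₁ * v) = e₁ * e₁ * (u * u + v * v) := by
        have : η₁ * ((u₁ * u + v₁ * v) * (u₁ * u + v₁ * v) - e₁ * e₁ * (u * u + v * v)) = 0 := by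
          linear_combination (-(u₁ * u + v₁ * v)) * hWab + e₁ * hab
        have := (mul_eq_zero.1 this).resolve_left hη₁
        linear_combination this
      have hb2 : (u₁ * v - v₁ * u) * (u₁ * v - v₁ * u) = η₁ * η₁ * (u * u + v * v) := by
        have : e₁ * ((u₁ * v - v₁ * u) * (u₁ * v - v₁ * u) - η₁ * η₁ * (u * u + v * v)) = 0 := by
          linear_combination (u₁ * v - v₁ * u) * hWab + η₁ * hab
        have := (mul_eq_zero.1 this).resolve_left he₁
        linear_combination this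
      have : (e₁ * e₁ + η₁ * η₁ - u₁ * u₁ - v₁ * v₁) * (u * u + v * v) = 0 := by
        linear_combination (-1 : F) * ha2 - hb2
      rcases mul_eq_zero.1 this with h0 | h0
      · apply zero_ne_one (α := F)
        linear_combination hy - h0
      · exact hN h0
    · -- anticommuting: `m * n'` is a nontrivial element of `F[w]` in `A`
      exfalso
      obtain ⟨-, he, a1⟩ := qm_anticomm h2 hc
      subst he
      have hprod := A.mul_mem hmA hnA
      rw [qm_mul] at hprod
      have key : ∃ hk : (0 : F) * 0 + (u * Q - v * P) * (u * Q - v * P) - 0 * 0 - 0 * 0 = 1,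
          qm 0 (u * Q - v * P) 0 0 hk ∈ A := by
        have hnorm : (0 : F) * 0 + (u * Q - v * P) * (u * Q - v * P) - 0 * 0 - 0 * 0 = 1 := by
          linear_combination hm - (u * u + v * v) * hnn - (u * P + v * Q) * a1
        refine ⟨hnorm, ?_⟩
        convert hprod using 1
        apply qm_congr
        · linear_combination (-1 : F) * a1
        · ring
        · ring
        · ring
      obtain ⟨hk, hkA⟩ := key
      have := hnot 0 _ hk hkA
      rw [this] at hk
      apply zero_ne_one (α := F)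
      linear_combination hk

end Cfsg.Agent.Lib.Helper5.PSL2Solv3
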