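import Mathlib
import Cfsg.Agent.Lib.Helper5.PSL2Solv3.Rot3
import Cfsg.Agent.Lib.Helper5.DicksonSolv
import Cfsg.Agent.Lib.Helper4.SLCard

set_option autoImplicit false

namespace Cfsg.Agent.Lib.Helper5.PSL2Solv3

open Matrix Subgroup
open Cfsg.Agent.Lib.Helper5.PSL2Solv Cfsg.Agent.Lib.Helper5.AutPSL2

variable {F : Type*} [Field F]

/-- Frobenius `z ↦ z ^ 3` on `SL₂` in characteristic three. -/
noncomputable def frob3 (F : Type*) [Field F] [CharP F 3] :
    Matrix.SpecialLinearGroup (Fin 2) F →* Matrix.SpecialLinearGroup (Fin 2) F :=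
  Matrix.SpecialLinearGroup.map (frobenius F 3)

theorem three_eq_zero_of_charP [CharP F 3] : (3 : F) = 0 := by
  have := CharP.cast_eq_zero F 3
  exact_mod_cast this

theorem frob3_det [CharP F 3] {a b c d : F} (h : a * d - b * c = 1) :
    a ^ 3 * d ^ 3 - b ^ 3 * c ^ 3 = 1 := by
  have h3 : (3 : F) = 0 := three_eq_zero_of_charP
  linear_combination ((a * d - b * c) ^ 2 + (a * d - b * c) + 1) * h +
    (a * d * b * c * (a * d - b * c)) * h3

theorem frob3_mk2 [CharP F 3] (a b c d : F) (h : a * d - b * c = 1) :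
    frob3 F (mk2 a b c d h) = mk2 (a ^ 3) (b ^ 3) (c ^ 3) (d ^ 3) (frob3_det h) := by
  apply Matrix.SpecialLinearGroup.ext
  intro i j
  have e : ((frob3 F (mk2 a b c d h) : Matrix.SpecialLinearGroup (Fin 2) F) :
      Matrix (Fin 2) (Fin 2) F) i j =
      (frobenius F 3) ((mk2 a b c d h : Matrix (Fin 2) (Fin 2) F) i j) := by
    unfold frob3
    rw [Matrix.SpecialLinearGroup.map_apply_coe]
    rfl
  rw [e, frobenius_def]
  fin_cases i <;> fin_cases j <;> rfl

theorem frob3_qm_fixed [CharP F 3] {e η u v : F} (h : e * e + η * η - u * u - v * v = 1)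
    (he : e ^ 3 = e) (hη : η ^ 3 = η) (hu : u ^ 3 = u) (hv : v ^ 3 = v) :
    frob3 F (qm e η u v h) = qm e η u v h := by
  have h3 : (3 : F) = 0 := three_eq_zero_of_charP
  rw [qm, frob3_mk2, mk2_inj]
  refine ⟨?_, ?_, ?_, ?_⟩
  · linear_combination he + hu + (e ^ 2 * u + e * u ^ 2) * h3
  · linear_combination hη + hv + (η ^ 2 * v + η * v ^ 2) * h3
  · linear_combination (-1 : F) * hη + hv + (η ^ 2 * v - η * v ^ 2) * h3
  · linear_combination he - hu + (-(e ^ 2 * u) + e * u ^ 2) * h3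

/-- `υ w υ⁻¹`. -/
theorem conj_uu_wE (h3 : (3 : F) = 0) :
    uu (1 : F) * wE F * (uu (1 : F))⁻¹ = qm 0 0 (-1) (-1) (by linear_combination (-1 : F) * h3) := by
  rw [uu_inv, uu, uu, wE, mk2_mul, mk2_mul, qm, mk2_inj]
  refine ⟨by ring, ?_, by ring, by ring⟩
  linear_combination h3

theorem cube_of_sq_one {z : F} (h : z * z = 1) : z ^ 3 = z := by
  linear_combination z * h

/-- The core of the unipotent case: if `w ∈ A` then `y` has entries in the prime field. -/
theorem unip3_core [CharP F 3] (hns : ∀ z : F, z * z ≠ -1)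
    {A : Subgroup (Matrix.SpecialLinearGroup (Fin 2) F)} (hw : wE F ∈ A)
    (hcomm : ∀ a ∈ A, ∀ b ∈ A, a * b = b * a ∨ a * b = negOne F * (b * a))
    (hcx : ∀ a ∈ A, uu (1 : F) * a * (uu (1 : F))⁻¹ ∈ A)
    (y : Matrix.SpecialLinearGroup (Fin 2) F) (hcy : ∀ a ∈ A, y * a * y⁻¹ ∈ A) :
    frob3 F y = y := by
  have h3 : (3 : F) = 0 := three_eq_zero_of_charP
  have h2 : (2 : F) ≠ 0 := two_ne_zero_of_hns hns
  have hj := hcx _ hw
  rw [conj_uu_wE h3] at hj
  rw [wE_eq_qm] at hw
  -- all elements of `A` are fixed by Frobenius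
  have hfix : ∀ a ∈ A, frob3 F a = a := by
    intro a ha
    obtain ⟨e, η, u, v, hm, rfl⟩ := exists_qm h2 a
    have k1 : (u = 0 ∧ v = 0) ∨ (e = 0 ∧ η = 0) := by
      rcases hcomm _ ha _ hw with hc | hc
      · obtain ⟨c1, c2, c3⟩ := qm_comm h2 hc
        left
        exact ⟨by linear_combination c3, by linear_combination (-1 : F) * c2⟩
      · obtain ⟨c1, -, c3⟩ := qm_anticomm h2 hc
        right
        exact ⟨c1, by linear_combination (-1 : F) * c3⟩
    have k2 : (η = 0 ∧ u = v) ∨ (e = 0 ∧ v = -u) := by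
      rcases hcomm _ ha _ hj with hc | hc
      · obtain ⟨c1, c2, c3⟩ := qm_comm h2 hc
        left
        exact ⟨by linear_combination (-1 : F) * c2, by linear_combination (-1 : F) * c1⟩
      · obtain ⟨c1, -, c3⟩ := qm_anticomm h2 hc
        right
        exact ⟨c1, by linear_combination (-1 : F) * c3⟩
    have hcube : e ^ 3 = e ∧ η ^ 3 = η ∧ u ^ 3 = u ∧ v ^ 3 = v := by
      rcases k1 with ⟨hu, hv⟩ | ⟨he, hη⟩
      · subst hu hv
        rcases k2 with ⟨hη, -⟩ | ⟨he, -⟩
        · subst hη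
          refine ⟨cube_of_sq_one (by linear_combination hm), by ring, by ring, by ring⟩
        · subst he
          refine ⟨by ring, cube_of_sq_one (by linear_combination hm), by ring, by ring⟩
      · subst he hη
        have hu2 : u * u = 1 := by
          rcases k2 with ⟨-, huv⟩ | ⟨-, huv⟩
          · subst huv
            linear_combination hm + (u * u) * h3
          · subst huv
            linear_combination hm + (u * u) * h3
        have hv2 : v * v = 1 := by
          rcases k2 with ⟨-, huv⟩ | ⟨-, huv⟩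
          · rw [← huv]; exact hu2
          · rw [huv]; linear_combination hu2
        exact ⟨by ring, by ring, cube_of_sq_one hu2, cube_of_sq_one hv2⟩
    obtain ⟨he, hη, hu, hv⟩ := hcube
    exact frob3_qm_fixed hm he hη hu hv
  -- `z := y⁻¹ * frob3 y` centralizes `A`
  have hz : ∀ a ∈ A, (y⁻¹ * frob3 F y) * a = a * (y⁻¹ * frob3 F y) := by
    intro a ha
    have h1 := hfix _ (hcy a ha)
    rw [map_mul, map_mul, map_inv, hfix a ha] at h1
    have : frob3 F y * a = y * a * y⁻¹ * frob3 F y := by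
      rw [← h1]; group
    calc y⁻¹ * frob3 F y * a = y⁻¹ * (frob3 F y * a) := by group
      _ = y⁻¹ * (y * a * y⁻¹ * frob3 F y) := by rw [this]
      _ = a * (y⁻¹ * frob3 F y) := by group
  obtain ⟨e, η, u, v, hzq, hzeq⟩ := exists_qm h2 (y⁻¹ * frob3 F y)
  have hz1 := hz _ hw
  have hz2 := hz _ hj
  rw [hzeq] at hz1 hz2
  obtain ⟨-, c2, c3⟩ := qm_comm h2 hz1
  obtain ⟨-, d2, -⟩ := qm_comm h2 hz2
  have hu : u = 0 := by linear_combination c3
  have hv : v = 0 := by linear_combination (-1 : F) * c2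
  subst hu hv
  have hη : η = 0 := by linear_combination (-1 : F) * d2
  subst hη
  have he : (e - 1) * (e + 1) = 0 := by linear_combination hzq
  rcases mul_eq_zero.1 he with he | he
  · have : y⁻¹ * frob3 F y = 1 := by
      rw [hzeq, qm_one]
      exact qm_congr (by linear_combination he) rfl rfl rfl
    calc frob3 F y = y * (y⁻¹ * frob3 F y) := by group
      _ = y := by rw [this, mul_one]
  · exfalso
    have hzn : y⁻¹ * frob3 F y = negOne F := by
      rw [hzeq, negOne_eq_qm]
      exact qm_congr (by linear_combination he) rfl rfl rfl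
    have hfy : frob3 F y = negOne F * y := by
      have hcen : negOne F * y = y * negOne F := by
        have := (mem_center_iff' (negOne F)).2 (Or.inr rfl)
        exact (Subgroup.mem_center_iff.1 this y).symm
      calc frob3 F y = y * (y⁻¹ * frob3 F y) := by group
        _ = y * negOne F := by rw [hzn]
        _ = negOne F * y := hcen.symm
    obtain ⟨a, b, c, d, h, rfl⟩ := exists_mk2 y
    rw [frob3_mk2, negOne_mul, mk2_inj] at hfy
    obtain ⟨e1, e2, e3, e4⟩ := hfy
    have zer : ∀ z : F, z ^ 3 = -z → z = 0 := by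
      intro z hz
      by_contra hz0
      apply hns z
      apply mul_left_cancel₀ hz0
      linear_combination hz
    rw [zer a e1, zer b e2] at h
    apply zero_ne_one (α := F)
    linear_combination h

theorem pr_uu_one_ne : pr F (uu (1 : F)) ≠ 1 := by
  rw [Ne, pr_eq_one_iff]
  rintro (h | h)
  · rw [uu, mk2_one, mk2_inj] at h
    exact one_ne_zero h.2.1
  · rw [uu, negOne, mk2_inj] at h
    exact one_ne_zero h.2.1

/-- Conjugate of a subgroup. -/
def conjSub (g : Matrix.SpecialLinearGroup (Fin 2) F)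
    (A : Subgroup (Matrix.SpecialLinearGroup (Fin 2) F)) :
    Subgroup (Matrix.SpecialLinearGroup (Fin 2) F) :=
  A.map (MulAut.conj g).toMonoidHom

theorem mem_conjSub {g : Matrix.SpecialLinearGroup (Fin 2) F}
    {A : Subgroup (Matrix.SpecialLinearGroup (Fin 2) F)}
    {a' : Matrix.SpecialLinearGroup (Fin 2) F} :
    a' ∈ conjSub g A ↔ ∃ a ∈ A, g * a * g⁻¹ = a' := by
  unfold conjSub
  rw [Subgroup.mem_map]
  rfl

theorem negOne_comm (g : Matrix.SpecialLinearGroup (Fin 2) F) : negOne F * g = g * negOne F := by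
  have := (mem_center_iff' (negOne F)).2 (Or.inr rfl)
  exact (Subgroup.mem_center_iff.1 this g).symm

theorem conj_uu_mk2 (s a b c d : F) (h : a * d - b * c = 1) :
    uu s * mk2 a b c d h * (uu s)⁻¹ =
      mk2 (a + s * c) (-s * (a + s * c) + b + s * d) c (d - s * c)
        (by linear_combination h) := by
  rw [uu_inv, uu, uu, mk2_mul, mk2_mul, mk2_inj]
  refine ⟨by ring, by ring, by ring, by ring⟩

theorem unip3_only [CharP F 3] (hns : ∀ z : F, z * z ≠ -1) {a b c d : F}
    (h : a * d - b * c = 1) (hs : SolvP (uu (1 : F)) (mk2 a b c d h)) :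
    c = 0 ∨ (c * c = 1 ∧ (a + d) ^ 3 = a + d) := by
  have h3 : (3 : F) = 0 := three_eq_zero_of_charP
  have h2 : (2 : F) ≠ 0 := two_ne_zero_of_hns hns
  obtain ⟨A, ⟨m, hmA, hm1, hm2⟩, hcomm, hcx, hcy, -, -⟩ :=
    exists_normalized_lift _ _ pr_uu_one_ne hs
  obtain ⟨m₁, m₂, m₃, m₄, hm, rfl⟩ := exists_mk2 m
  have hn := hcx _ hmA
  rw [conj_uu_mk2] at hn
  rcases hcomm _ hn _ hmA with hc | hc
  · -- commuting case: `m = ± uu μ`
    left
    rw [mk2_mul, mk2_mul, mk2_inj] at hc
    obtain ⟨e1, e2, e3, e4⟩ := hc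
    have hm3 : m₃ = 0 := by
      have : (2 : F) * (m₃ * m₃) = 0 := by linear_combination (-1 : F) * e3
      exact mul_self_eq_zero.1 ((mul_eq_zero.1 this).resolve_left h2)
    subst hm3
    have hm14 : m₄ = m₁ := by
      have : (m₄ - m₁) * (m₄ - m₁) = 0 := by linear_combination e2
      have := mul_self_eq_zero.1 this
      linear_combination this
    subst hm14
    have hm11 : m₄ * m₄ = 1 := by linear_combination hm
    have hm2' : m₂ ≠ 0 := by
      rintro rfl
      have : (m₄ - 1) * (m₄ + 1) = 0 := by linear_combination hm11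
      rcases mul_eq_zero.1 this with h0 | h0
      · apply hm1
        rw [mk2_one, mk2_inj]
        exact ⟨by linear_combination h0, rfl, rfl, by linear_combination h0⟩
      · apply hm2
        rw [negOne, mk2_inj]
        exact ⟨by linear_combination h0, rfl, rfl, by linear_combination h0⟩
    have hn2 := hcy _ hmA
    rcases hcomm _ hn2 _ hmA with hc2 | hc2
    · simp only [mk2_inv, mk2_mul, mk2_inj] at hc2
      obtain ⟨f1, f2, f3, f4⟩ := hc2
      have : (m₂ * c) * (m₂ * c) = 0 := by linear_combination f1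
      have := mul_self_eq_zero.1 this
      exact (mul_eq_zero.1 this).resolve_left hm2'
    · exfalso
      obtain ⟨n₁, n₂, n₃, n₄, hne, hne'⟩ := exists_mk2
        (mk2 a b c d h * mk2 m₄ m₂ 0 m₄ hm * (mk2 a b c d h)⁻¹)
      rw [hne'] at hc2
      obtain ⟨-, htr⟩ := trace_zero_of_anticomm h2 _ _ hc2
      have : m₄ = 0 := by
        have : (2 : F) * m₄ = 0 := by linear_combination htr
        exact (mul_eq_zero.1 this).resolve_left h2
      rw [this] at hm11
      apply zero_ne_one (α := F)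
      linear_combination hm11
  · -- anticommuting case
    obtain ⟨-, htr⟩ := trace_zero_of_anticomm h2 _ _ hc
    have hm4 : m₄ = -m₁ := by linear_combination htr
    subst hm4
    rw [mk2_mul, mk2_mul, negOne_mul, mk2_inj] at hc
    obtain ⟨e1, -, -, -⟩ := hc
    have hm33 : m₃ * m₃ = 1 := by
      linear_combination (-1 : F) * e1 - 2 * hm - (1 : F) * h3
    -- normalize
    have key : ∃ A' : Subgroup (Matrix.SpecialLinearGroup (Fin 2) F), wE F ∈ A' ∧
        (∀ z ∈ A', ∀ z' ∈ A', z * z' = z' * z ∨ z * z' = negOne F * (z' * z)) ∧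
        (∀ z ∈ A', uu (1 : F) * z * (uu (1 : F))⁻¹ ∈ A') ∧
        (∀ z ∈ A', (uu (-(m₁ * m₃)) * mk2 a b c d h * (uu (-(m₁ * m₃)))⁻¹) * z *
          (uu (-(m₁ * m₃)) * mk2 a b c d h * (uu (-(m₁ * m₃)))⁻¹)⁻¹ ∈ A') := by
      refine ⟨conjSub (uu (-(m₁ * m₃))) A, ?_, ?_, ?_, ?_⟩
      · have hgm : uu (-(m₁ * m₃)) * mk2 m₁ m₂ m₃ (-m₁) hm * (uu (-(m₁ * m₃)))⁻¹ =
            mk2 0 (-m₃) m₃ 0 (by linear_combination hm33) := by
          rw [conj_uu_mk2, mk2_inj]
          refine ⟨by linear_combination (-m₁) * hm33, ?_, rfl,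
            by linear_combination (m₁) * hm33⟩
          linear_combination (-(m₁ * m₁ * m₃) - m₂) * hm33 - m₃ * hm
        have hmem : mk2 0 (-m₃) m₃ 0 (by linear_combination hm33) ∈
            conjSub (uu (-(m₁ * m₃))) A := mem_conjSub.2 ⟨_, hmA, hgm⟩
        have : (m₃ - 1) * (m₃ + 1) = 0 := by linear_combination hm33
        rcases mul_eq_zero.1 this with h0 | h0
        · have e : wE F = (mk2 0 (-m₃) m₃ 0 (by linear_combination hm33))⁻¹ := by
            rw [mk2_inv, wE, mk2_inj]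
            exact ⟨rfl, by linear_combination (-1 : F) * h0, by linear_combination h0, rfl⟩
          rw [e]
          exact inv_mem hmem
        · have e : wE F = mk2 0 (-m₃) m₃ 0 (by linear_combination hm33) := by
            rw [wE, mk2_inj]
            exact ⟨rfl, by linear_combination h0, by linear_combination (-1 : F) * h0, rfl⟩
          rw [e]
          exact hmem
      · intro a' ha' b' hb'
        obtain ⟨a₀, ha₀, rfl⟩ := mem_conjSub.1 ha'
        obtain ⟨b₀, hb₀, rfl⟩ := mem_conjSub.1 hb'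
        rcases hcomm _ ha₀ _ hb₀ with hc' | hc'
        · left
          calc uu (-(m₁ * m₃)) * a₀ * (uu (-(m₁ * m₃)))⁻¹ *
                (uu (-(m₁ * m₃)) * b₀ * (uu (-(m₁ * m₃)))⁻¹)
              = uu (-(m₁ * m₃)) * (a₀ * b₀) * (uu (-(m₁ * m₃)))⁻¹ := by group
            _ = uu (-(m₁ * m₃)) * (b₀ * a₀) * (uu (-(m₁ * m₃)))⁻¹ := by rw [hc']
            _ = _ := by group
        · right
          calc uu (-(m₁ * m₃)) * a₀ * (uu (-(m₁ * m₃)))⁻¹ *
                (uu (-(m₁ * m₃)) * b₀ * (uu (-(m₁ * m₃)))⁻¹)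
              = uu (-(m₁ * m₃)) * (a₀ * b₀) * (uu (-(m₁ * m₃)))⁻¹ := by group
            _ = uu (-(m₁ * m₃)) * (negOne F * (b₀ * a₀)) * (uu (-(m₁ * m₃)))⁻¹ := by rw [hc']
            _ = (uu (-(m₁ * m₃)) * negOne F) * (b₀ * a₀) * (uu (-(m₁ * m₃)))⁻¹ := by group
            _ = (negOne F * uu (-(m₁ * m₃))) * (b₀ * a₀) * (uu (-(m₁ * m₃)))⁻¹ := by
                rw [negOne_comm]
            _ = _ := by group
      · intro a' ha'
        obtain ⟨a₀, ha₀, rfl⟩ := mem_conjSub.1 ha'
        refine mem_conjSub.2 ⟨_, hcx _ ha₀, ?_⟩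
        have hcm : uu (1 : F) * uu (-(m₁ * m₃)) = uu (-(m₁ * m₃)) * uu (1 : F) := by
          rw [← uu_add, ← uu_add, add_comm]
        calc uu (-(m₁ * m₃)) * (uu 1 * a₀ * (uu 1)⁻¹) * (uu (-(m₁ * m₃)))⁻¹
            = (uu (-(m₁ * m₃)) * uu 1) * a₀ * (uu (-(m₁ * m₃)) * uu 1)⁻¹ := by group
          _ = (uu 1 * uu (-(m₁ * m₃))) * a₀ * (uu 1 * uu (-(m₁ * m₃)))⁻¹ := by rw [hcm]
          _ = _ := by group
      · intro a' ha'
        obtain ⟨a₀, ha₀, rfl⟩ := mem_conjSub.1 ha'
        refine mem_conjSub.2 ⟨_, hcy _ ha₀, ?_⟩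
        group
    obtain ⟨A', hw', hcomm', hcx', hcy'⟩ := key
    have hfix := unip3_core hns hw' hcomm' hcx' _ hcy'
    rw [conj_uu_mk2, frob3_mk2, mk2_inj] at hfix
    obtain ⟨g1, -, g3, g4⟩ := hfix
    by_cases hc0 : c = 0
    · left; exact hc0
    · right
      constructor
      · apply mul_left_cancel₀ hc0
        linear_combination g3
      · linear_combination g1 + g4 +
          ((a + -(m₁ * m₃) * c) ^ 2 * (d - -(m₁ * m₃) * c) +
            (a + -(m₁ * m₃) * c) * (d - -(m₁ * m₃) * c) ^ 2) * h3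

theorem sl2_zmod3_solvable :
    Group.IsSolvable (Matrix.SpecialLinearGroup (Fin 2) (ZMod 3)) := by
  apply Cfsg.Agent.Lib.Helper5.DicksonSolv.isSolvable_of_card_24
  rw [Cfsg.Agent.Lib.Helper4.card_SL2, ZMod.card]
  norm_num

theorem map_mk2 {K : Type*} [Field K] (f : K →+* F) (a b c d : K) (h : a * d - b * c = 1) :
    Matrix.SpecialLinearGroup.map f (mk2 a b c d h) = mk2 (f a) (f b) (f c) (f d)
      (by rw [← map_mul, ← map_mul, ← map_sub, h, map_one]) := by
  apply Matrix.SpecialLinearGroup.ext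
  intro i j
  have e : ((Matrix.SpecialLinearGroup.map f (mk2 a b c d h) :
      Matrix.SpecialLinearGroup (Fin 2) F) : Matrix (Fin 2) (Fin 2) F) i j =
      f ((mk2 a b c d h : Matrix (Fin 2) (Fin 2) K) i j) := by
    rw [Matrix.SpecialLinearGroup.map_apply_coe]
    rfl
  rw [e]
  fin_cases i <;> fin_cases j <;> rfl

/-- Elements of the prime field. -/
theorem exists_zmod3_of_cube [CharP F 3] {t : F} (ht : t ^ 3 = t) :
    ∃ t₀ : ZMod 3, (ZMod.castHom (dvd_refl 3) F) t₀ = t := by
  have : t * ((t - 1) * (t + 1)) = 0 := by linear_combination ht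
  rcases mul_eq_zero.1 this with h0 | h0
  · exact ⟨0, by rw [map_zero, h0]⟩
  · rcases mul_eq_zero.1 h0 with h1 | h1
    · exact ⟨1, by rw [map_one]; linear_combination (-1 : F) * h1⟩
    · exact ⟨-1, by rw [map_neg, map_one]; linear_combination (-1 : F) * h1⟩

theorem solvP_prime_field [CharP F 3] (g₀ g : Matrix.SpecialLinearGroup (Fin 2) (ZMod 3)) :
    SolvP (Matrix.SpecialLinearGroup.map (ZMod.castHom (dvd_refl 3) F) g₀)
      (Matrix.SpecialLinearGroup.map (ZMod.castHom (dvd_refl 3) F) g) := by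
  apply solvP_of_solv
  have hr : Group.IsSolvable ↥(Matrix.SpecialLinearGroup.map
      (n := Fin 2) (ZMod.castHom (dvd_refl 3) F)).range := by
    have := sl2_zmod3_solvable
    exact Group.isSolvable_of_surjective (MonoidHom.rangeRestrict_surjective _)
  apply solvable_of_le _ hr
  rw [Subgroup.closure_le]
  intro z hz
  rcases hz with rfl | rfl
  · exact ⟨g₀, rfl⟩
  · exact ⟨g, rfl⟩

theorem unip3_of [CharP F 3] {a b c d : F} (h : a * d - b * c = 1)
    (hc : c = 0 ∨ (c * c = 1 ∧ (a + d) ^ 3 = a + d)) :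
    SolvP (uu (1 : F)) (mk2 a b c d h) := by
  have h3 : (3 : F) = 0 := three_eq_zero_of_charP
  rcases hc with hc | ⟨hc, ht⟩
  · apply solvP_of_solv
    apply solvable_pair_of_upper
    · rw [uu, mk2_mem_borel]
    · rw [mk2_mem_borel]; exact hc
  · -- conjugate into the prime field
    have hcc : c ^ 3 = c := cube_of_sq_one hc
    obtain ⟨c₀, hc₀⟩ := exists_zmod3_of_cube hcc
    obtain ⟨t₀, ht₀⟩ := exists_zmod3_of_cube ht
    have hc₀' : c₀ * c₀ = 1 := by
      apply (ZMod.castHom (dvd_refl 3) F).injective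
      rw [map_mul, hc₀, map_one, hc]
    have key := solvP_prime_field (F := F) (mk2 1 1 0 1 (by ring))
      (mk2 0 (-c₀) c₀ t₀ (by linear_combination hc₀'))
    rw [map_mk2, map_mk2] at key
    simp only [map_one, map_zero, map_neg, hc₀, ht₀] at key
    have hconj := solvP_conj (uu (a * c)) _ _ key
    have e1 : uu (a * c) * mk2 1 1 0 1 (by ring) * (uu (a * c))⁻¹ = uu (1 : F) := by
      rw [conj_uu_mk2, uu, mk2_inj]
      refine ⟨by ring, by ring, rfl, by ring⟩
    have e2 : uu (a * c) * mk2 0 (-c) c (a + d) (by linear_combination hc) * (uu (a * c))⁻¹ =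
        mk2 a b c d h := by
      rw [conj_uu_mk2, mk2_inj]
      refine ⟨by linear_combination a * hc, ?_, rfl, by linear_combination (-a) * hc⟩
      linear_combination (-(a * a * c) + b) * hc + c * h
    rw [e1, e2] at hconj
    exact hconj

end Cfsg.Agent.Lib.Helper5.PSL2Solv3
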