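import Mathlib
import Cfsg.Agent.Lib.Helper5.PSL2Solv3.Unip3

set_option autoImplicit false

namespace Cfsg.Agent.Lib.Helper5.PSL2Solv3

open Matrix Subgroup
open Cfsg.Agent.Lib.Helper5.PSL2Solv Cfsg.Agent.Lib.Helper5.AutPSL2

variable {F : Type*} [Field F]

theorem wE_sq : wE F * wE F = negOne F := by
  rw [wE_eq_qm, qm_mul, negOne_eq_qm]
  apply qm_congr <;> ring

theorem pr_sq_of_sq_negOne {g : Matrix.SpecialLinearGroup (Fin 2) F} (h : g * g = negOne F) :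
    pr F g * pr F g = 1 := by
  rw [← map_mul, h, pr_negOne]

theorem anticomm_wE_of_zero (E P Q : F) (hn : 0 * 0 + E * E - P * P - Q * Q = 1) (hE : E = 0) :
    qm 0 E P Q hn * wE F = negOne F * (wE F * qm 0 E P Q hn) := by
  subst hE
  rw [wE_eq_qm, negOne_eq_qm]
  simp only [qm_mul]
  apply qm_congr <;> ring

/-- Converse for the involution `w`. -/
theorem wE3_of (h3 : (3 : F) = 0) {e₁ η₁ u₁ v₁ : F}
    (hy : e₁ * e₁ + η₁ * η₁ - u₁ * u₁ - v₁ * v₁ = 1)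
    (hc : (u₁ = 0 ∧ v₁ = 0) ∨ e₁ = 0 ∨ η₁ = 0 ∨ (e₁ * e₁ = 1 ∧ η₁ * η₁ = 1)) :
    SolvP (wE F) (qm e₁ η₁ u₁ v₁ hy) := by
  rcases hc with ⟨hu, hv⟩ | he | hη | ⟨he, hη⟩
  · subst hu hv
    apply solvP_of_solv
    apply solvable_pair_of_commute
    show wE F * qm e₁ η₁ 0 0 hy = qm e₁ η₁ 0 0 hy * wE F
    rw [wE_eq_qm, qm_mul, qm_mul]
    apply qm_congr <;> ring
  · subst he
    unfold SolvP
    apply solvable_pair_of_involutions
    · exact pr_sq_of_sq_negOne wE_sq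
    · apply pr_sq_of_sq_negOne
      rw [qm_sq, negOne_eq_qm]
      apply qm_congr <;> ring
  · subst hη
    apply solvP_of_solv
    apply solvable_pair_of_inverts
    rw [conj_wE_qm, qm_inv]
    apply qm_congr <;> ring
  · unfold SolvP
    have huv : u₁ * u₁ + v₁ * v₁ = 1 := by linear_combination he + hη - hy
    apply solvable_pair_of_three
    · -- `y ^ 3 = ± 1`
      rw [← map_mul, ← map_mul, pr_eq_one_iff, qm_sq, qm_mul]
      have : (e₁ - 1) * (e₁ + 1) = 0 := by linear_combination he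
      rcases mul_eq_zero.1 this with h0 | h0
      · left
        rw [qm_one]
        apply qm_congr
        · linear_combination (2 * e₁ * e₁ - 2 * η₁ * η₁ + 2 * u₁ * u₁ + 2 * v₁ * v₁ - 1) * h0 +
            2 * he - 2 * hη + 2 * huv
        · linear_combination (4 * η₁) * he + η₁ * h3
        · linear_combination (4 * u₁) * he + u₁ * h3
        · linear_combination (4 * v₁) * he + v₁ * h3
      · right
        rw [negOne_eq_qm]
        apply qm_congr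
        · linear_combination (2 * e₁ * e₁ - 2 * η₁ * η₁ + 2 * u₁ * u₁ + 2 * v₁ * v₁ - 1) * h0 -
            2 * he + 2 * hη - 2 * huv
        · linear_combination (4 * η₁) * he + η₁ * h3
        · linear_combination (4 * u₁) * he + u₁ * h3
        · linear_combination (4 * v₁) * he + v₁ * h3
    · have e1 : pr F (wE F) * (pr F (qm e₁ η₁ u₁ v₁ hy) * pr F (wE F) *
          (pr F (qm e₁ η₁ u₁ v₁ hy))⁻¹) =
          pr F (wE F * (qm e₁ η₁ u₁ v₁ hy * wE F * (qm e₁ η₁ u₁ v₁ hy)⁻¹)) := by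
        simp only [map_mul, map_inv]
      have e2 : (pr F (qm e₁ η₁ u₁ v₁ hy) * pr F (wE F) *
          (pr F (qm e₁ η₁ u₁ v₁ hy))⁻¹) * pr F (wE F) =
          pr F ((qm e₁ η₁ u₁ v₁ hy * wE F * (qm e₁ η₁ u₁ v₁ hy)⁻¹) * wE F) := by
        simp only [map_mul, map_inv]
      rw [e1, e2, pr_eq_iff]
      right
      have hE : e₁ * e₁ + η₁ * η₁ + u₁ * u₁ + v₁ * v₁ = 0 := by
        linear_combination he + hη + huv + h3
      rw [conj_qm_wE]
      exact anticomm_wE_of_zero _ _ _ _ hE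

theorem wE3_iff (h3 : (3 : F) = 0) (hns : ∀ z : F, z * z ≠ -1) {e₁ η₁ u₁ v₁ : F}
    (hy : e₁ * e₁ + η₁ * η₁ - u₁ * u₁ - v₁ * v₁ = 1) :
    SolvP (wE F) (qm e₁ η₁ u₁ v₁ hy) ↔
      ((u₁ = 0 ∧ v₁ = 0) ∨ e₁ = 0 ∨ η₁ = 0 ∨ (e₁ * e₁ = 1 ∧ η₁ * η₁ = 1)) :=
  ⟨wE3_only h3 hns hy, wE3_of h3 hy⟩

/-- Converse for a rotation. -/
theorem rot3_of {α β : F} (hr : α * α - β * (-β) = 1) {e₁ η₁ u₁ v₁ : F}
    (hy : e₁ * e₁ + η₁ * η₁ - u₁ * u₁ - v₁ * v₁ = 1)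
    (hc : (e₁ = 0 ∧ η₁ = 0) ∨ (u₁ = 0 ∧ v₁ = 0)) :
    SolvP (rot α β hr) (qm e₁ η₁ u₁ v₁ hy) := by
  rcases hc with ⟨he, hη⟩ | ⟨hu, hv⟩
  · subst he hη
    apply solvP_swap
    apply solvP_of_solv
    apply solvable_pair_of_inverts
    rw [rot_eq_qm, qm_inv, qm_inv, qm_mul, qm_mul]
    apply qm_congr
    · linear_combination α * hy
    · linear_combination (-β) * hy
    · ring
    · ring
  · subst hu hv
    apply solvP_of_solv
    apply solvable_pair_of_commute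
    show rot α β hr * qm e₁ η₁ 0 0 hy = qm e₁ η₁ 0 0 hy * rot α β hr
    rw [rot_eq_qm, qm_mul, qm_mul]
    apply qm_congr <;> ring

theorem rot3_iff (h3 : (3 : F) = 0) (hns : ∀ z : F, z * z ≠ -1) {α β : F}
    (hr : α * α - β * (-β) = 1) (hα : α ≠ 0) (hβ : β ≠ 0) {e₁ η₁ u₁ v₁ : F}
    (hy : e₁ * e₁ + η₁ * η₁ - u₁ * u₁ - v₁ * v₁ = 1) :
    SolvP (rot α β hr) (qm e₁ η₁ u₁ v₁ hy) ↔ ((e₁ = 0 ∧ η₁ = 0) ∨ (u₁ = 0 ∧ v₁ = 0)) :=
  ⟨rot3_only h3 hns hr hα hβ hy, rot3_of hr hy⟩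

theorem unip3_iff [CharP F 3] (hns : ∀ z : F, z * z ≠ -1) {a b c d : F}
    (h : a * d - b * c = 1) :
    SolvP (uu (1 : F)) (mk2 a b c d h) ↔ (c = 0 ∨ (c * c = 1 ∧ (a + d) ^ 3 = a + d)) :=
  ⟨unip3_only hns h, unip3_of h⟩

end Cfsg.Agent.Lib.Helper5.PSL2Solv3
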