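import Mathlib
import Cfsg.Agent.Lib.Helper5.PSL2Solv3.Conv3
import Cfsg.Agent.Lib.Helper5.SumTwoSq

set_option autoImplicit false

namespace Cfsg.Agent.Lib.Helper5.PSL2Solv3

open Matrix Subgroup
open Cfsg.Agent.Lib.Helper5.PSL2Solv Cfsg.Agent.Lib.Helper5.AutPSL2

variable {F : Type*} [Field F]

/-- Number of points on a conic `x² + y² = c`. -/
theorem card_conic [Fintype F] (hodd : Fintype.card F % 2 = 1) (hns : ∀ z : F, z * z ≠ -1)
    (c : F) (hc : c ≠ 0) :
    Nat.card {p : F × F // p.1 * p.1 + p.2 * p.2 = c} = Fintype.card F + 1 := by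
  classical
  have hsq : ¬ IsSquare (-1 : F) := by
    rintro ⟨r, hr⟩
    exact hns r hr.symm
  rw [← Cfsg.Agent.Lib.Helper5.SumTwoSq.card_S_of_not_sq hodd hsq c hc,
    Nat.card_eq_fintype_card, Fintype.card_subtype]
  congr 1
  ext p
  rw [Finset.mem_filter, Cfsg.Agent.Lib.Helper5.SumTwoSq.mem_S]
  simp only [Finset.mem_univ, true_and]
  rw [pow_two, pow_two]

/-- Rotations. -/
def famRot3 (p : {p : F × F // p.1 * p.1 + p.2 * p.2 = 1}) :
    Matrix.SpecialLinearGroup (Fin 2) F :=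
  qm p.1.1 p.1.2 0 0 (by linear_combination p.2)

/-- Reflections. -/
def famRefl3 (p : {p : F × F // p.1 * p.1 + p.2 * p.2 = -1}) :
    Matrix.SpecialLinearGroup (Fin 2) F :=
  qm 0 0 p.1.1 p.1.2 (by linear_combination (-1 : F) * p.2)

theorem famRot3_inj (h2 : (2 : F) ≠ 0) : Function.Injective (famRot3 (F := F)) := by
  rintro ⟨⟨a, b⟩, h⟩ ⟨⟨a', b'⟩, h'⟩ e
  simp only [famRot3, qm_inj h2] at e
  obtain ⟨rfl, rfl, -, -⟩ := e
  rfl

theorem famRefl3_inj (h2 : (2 : F) ≠ 0) : Function.Injective (famRefl3 (F := F)) := by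
  rintro ⟨⟨a, b⟩, h⟩ ⟨⟨a', b'⟩, h'⟩ e
  simp only [famRefl3, qm_inj h2] at e
  obtain ⟨-, -, rfl, rfl⟩ := e
  rfl

theorem mem_range_famRot3 {e η u v : F} {h : e * e + η * η - u * u - v * v = 1} (h2 : (2 : F) ≠ 0) :
    qm e η u v h ∈ Set.range (famRot3 (F := F)) ↔ (u = 0 ∧ v = 0) := by
  constructor
  · rintro ⟨⟨⟨a, b⟩, hp⟩, e1⟩
    simp only [famRot3, qm_inj h2] at e1
    exact ⟨e1.2.2.1.symm, e1.2.2.2.symm⟩
  · rintro ⟨rfl, rfl⟩
    exact ⟨⟨⟨e, η⟩, by linear_combination h⟩, rfl⟩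

theorem mem_range_famRefl3 {e η u v : F} {h : e * e + η * η - u * u - v * v = 1}
    (h2 : (2 : F) ≠ 0) :
    qm e η u v h ∈ Set.range (famRefl3 (F := F)) ↔ (e = 0 ∧ η = 0) := by
  constructor
  · rintro ⟨⟨⟨a, b⟩, hp⟩, e1⟩
    simp only [famRefl3, qm_inj h2] at e1
    exact ⟨e1.1.symm, e1.2.1.symm⟩
  · rintro ⟨rfl, rfl⟩
    exact ⟨⟨⟨u, v⟩, by linear_combination (-1 : F) * h⟩, rfl⟩

theorem rot3_set (h3 : (3 : F) = 0) (hns : ∀ z : F, z * z ≠ -1) {α β : F}
    (hr : α * α - β * (-β) = 1) (hα : α ≠ 0) (hβ : β ≠ 0) :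
    {y : Matrix.SpecialLinearGroup (Fin 2) F | SolvP (rot α β hr) y} =
      Set.range (famRefl3 (F := F)) ∪ Set.range (famRot3 (F := F)) := by
  have h2 : (2 : F) ≠ 0 := two_ne_zero_of_hns hns
  ext y
  obtain ⟨e, η, u, v, h, rfl⟩ := exists_qm h2 y
  rw [Set.mem_ofPred_eq, rot3_iff h3 hns hr hα hβ, Set.mem_union, mem_range_famRot3 h2,
    mem_range_famRefl3 h2]

theorem rot3_count [Fintype F] (hodd : Fintype.card F % 2 = 1) (h3 : (3 : F) = 0)
    (hns : ∀ z : F, z * z ≠ -1) {α β : F}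
    (hr : α * α - β * (-β) = 1) (hα : α ≠ 0) (hβ : β ≠ 0) :
    Nat.card {y : Matrix.SpecialLinearGroup (Fin 2) F // SolvP (rot α β hr) y} =
      2 * (Fintype.card F + 1) := by
  classical
  have h2 : (2 : F) ≠ 0 := two_ne_zero_of_hns hns
  have h0 : Nat.card {y : Matrix.SpecialLinearGroup (Fin 2) F // SolvP (rot α β hr) y} =
      ({y : Matrix.SpecialLinearGroup (Fin 2) F | SolvP (rot α β hr) y}).ncard :=
    Nat.card_coe_set_eq _
  rw [h0, rot3_set h3 hns hr hα hβ, Set.ncard_union_eq _ (Set.toFinite _) (Set.toFinite _),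
    ncard_range_inj _ (famRot3_inj h2), ncard_range_inj _ (famRefl3_inj h2),
    card_conic hodd hns 1 one_ne_zero, card_conic hodd hns (-1) (neg_ne_zero.2 one_ne_zero)]
  · ring
  · rw [Set.disjoint_left]
    rintro y ⟨⟨⟨a, b⟩, hp⟩, rfl⟩ ⟨⟨⟨a', b'⟩, hp'⟩, e1⟩
    simp only [famRot3, famRefl3, qm_inj h2] at e1
    obtain ⟨rfl, rfl, -, -⟩ := e1
    simp only [mul_zero, add_zero] at hp'
    exact zero_ne_one hp'

/-- Signs. -/
def sgn (F : Type*) [Field F] (s : Bool) : F := if s then 1 else -1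

theorem sgn_mul_self (s : Bool) : sgn F s * sgn F s = 1 := by
  cases s <;> simp [sgn]

theorem sgn_inj (h2 : (2 : F) ≠ 0) : Function.Injective (sgn F) := by
  have hne : (-1 : F) ≠ 1 := by
    intro h
    apply h2
    linear_combination (-1 : F) * h
  intro s s' h
  cases s <;> cases s' <;> simp only [sgn, if_true, if_false, Bool.false_eq_true] at h
  · rfl
  · exact absurd h hne
  · exact absurd h.symm hne
  · rfl

theorem exists_sgn {c : F} (h : c * c = 1) : ∃ s : Bool, sgn F s = c := by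
  have : (c - 1) * (c + 1) = 0 := by linear_combination h
  rcases mul_eq_zero.1 this with h0 | h0
  · exact ⟨true, by simp only [sgn, if_true]; linear_combination (-1 : F) * h0⟩
  · exact ⟨false, by
      simp only [sgn, if_false, Bool.false_eq_true]; linear_combination (-1 : F) * h0⟩

theorem zmod3_cube (k : ZMod 3) : k ^ 3 = k := by
  revert k
  decide

/-- The second family in the unipotent case. -/
noncomputable def famU3 (F : Type*) [Field F] [CharP F 3] (z : F × Bool × ZMod 3) :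
    Matrix.SpecialLinearGroup (Fin 2) F :=
  mk2 z.1 (sgn F z.2.1 * (z.1 * ((ZMod.castHom (dvd_refl 3) F) z.2.2 - z.1) - 1)) (sgn F z.2.1)
    ((ZMod.castHom (dvd_refl 3) F) z.2.2 - z.1)
    (by linear_combination (-(z.1 * ((ZMod.castHom (dvd_refl 3) F) z.2.2 - z.1) - 1)) *
      sgn_mul_self (F := F) z.2.1)

theorem famU3_inj [CharP F 3] (h2 : (2 : F) ≠ 0) : Function.Injective (famU3 F) := by
  rintro ⟨a, s, k⟩ ⟨a', s', k'⟩ e
  simp only [famU3, mk2_inj] at e
  obtain ⟨rfl, -, e3, e4⟩ := e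
  have hs := sgn_inj h2 e3
  subst hs
  have hk : (ZMod.castHom (dvd_refl 3) F) k = (ZMod.castHom (dvd_refl 3) F) k' := by
    linear_combination e4
  have := (ZMod.castHom (dvd_refl 3) F).injective hk
  subst this
  rfl

theorem mem_range_famUpper {a b c d : F} {h : a * d - b * c = 1} :
    mk2 a b c d h ∈ Set.range (famUpper F) ↔ c = 0 := by
  constructor
  · rintro ⟨⟨a', b'⟩, e⟩
    simp only [famUpper, mk2_inj] at e
    exact e.2.2.1.symm
  · intro hc0
    subst hc0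
    have ha : a ≠ 0 := by
      rintro rfl
      rw [zero_mul, mul_zero, sub_zero] at h
      exact zero_ne_one h
    refine ⟨(Units.mk0 a ha, b), ?_⟩
    show mk2 a b 0 a⁻¹ _ = mk2 a b 0 d h
    refine mk2_inj.2 ⟨rfl, rfl, rfl, ?_⟩
    have : a * d = 1 := by linear_combination h
    exact (eq_inv_of_mul_eq_one_right this).symm

theorem mem_range_famU3 [CharP F 3] {a b c d : F} {h : a * d - b * c = 1} :
    mk2 a b c d h ∈ Set.range (famU3 F) ↔ (c * c = 1 ∧ (a + d) ^ 3 = a + d) := by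
  constructor
  · rintro ⟨⟨a', s, k⟩, e⟩
    simp only [famU3, mk2_inj] at e
    obtain ⟨rfl, -, rfl, rfl⟩ := e
    refine ⟨sgn_mul_self s, ?_⟩
    have : a' + ((ZMod.castHom (dvd_refl 3) F) k - a') = (ZMod.castHom (dvd_refl 3) F) k := by
      ring
    rw [this, ← map_pow, zmod3_cube]
  · rintro ⟨hc, ht⟩
    obtain ⟨k, hk⟩ := exists_zmod3_of_cube ht
    obtain ⟨s, hs⟩ := exists_sgn hc
    refine ⟨(a, s, k), ?_⟩
    show mk2 a (sgn F s * (a * ((ZMod.castHom (dvd_refl 3) F) k - a) - 1)) (sgn F s)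
      ((ZMod.castHom (dvd_refl 3) F) k - a) _ = mk2 a b c d h
    rw [mk2_inj, hk, hs]
    refine ⟨rfl, ?_, rfl, by ring⟩
    linear_combination c * h + b * hc

theorem unip3_set [CharP F 3] (hns : ∀ z : F, z * z ≠ -1) :
    {y : Matrix.SpecialLinearGroup (Fin 2) F | SolvP (uu (1 : F)) y} =
      Set.range (famUpper F) ∪ Set.range (famU3 F) := by
  ext y
  obtain ⟨a, b, c, d, h, rfl⟩ := exists_mk2 y
  rw [Set.mem_ofPred_eq, unip3_iff hns, Set.mem_union, mem_range_famUpper, mem_range_famU3]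

theorem unip3_count [Fintype F] [CharP F 3] (hns : ∀ z : F, z * z ≠ -1) :
    Nat.card {y : Matrix.SpecialLinearGroup (Fin 2) F // SolvP (uu (1 : F)) y} =
      Fintype.card F * (Fintype.card F + 5) := by
  classical
  have h2 : (2 : F) ≠ 0 := two_ne_zero_of_hns hns
  have h0 : Nat.card {y : Matrix.SpecialLinearGroup (Fin 2) F // SolvP (uu (1 : F)) y} =
      ({y : Matrix.SpecialLinearGroup (Fin 2) F | SolvP (uu (1 : F)) y}).ncard :=
    Nat.card_coe_set_eq _
  obtain ⟨n, hn⟩ : ∃ n, Fintype.card F = n + 1 :=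
    Nat.exists_eq_succ_of_ne_zero Fintype.card_ne_zero
  rw [h0, unip3_set hns, Set.ncard_union_eq _ (Set.toFinite _) (Set.toFinite _),
    ncard_range_inj _ famUpper_inj, ncard_range_inj _ (famU3_inj h2), Nat.card_prod,
    Nat.card_prod, Nat.card_prod, Nat.card_eq_fintype_card, Nat.card_eq_fintype_card,
    Nat.card_eq_fintype_card, Nat.card_eq_fintype_card, Fintype.card_units, Fintype.card_bool,
    ZMod.card, hn]
  · simp only [Nat.add_sub_cancel]
    ring
  · rw [Set.disjoint_left]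
    rintro y ⟨⟨a, b⟩, rfl⟩ ⟨⟨a', s, k⟩, e1⟩
    simp only [famUpper, famU3, mk2_inj] at e1
    have := sgn_mul_self (F := F) s
    rw [e1.2.2.1, mul_zero] at this
    exact zero_ne_one this

end Cfsg.Agent.Lib.Helper5.PSL2Solv3
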