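import Mathlib
import Cfsg.Agent.Lib.Helper5.PSL2Solv3.Count3

set_option autoImplicit false

namespace Cfsg.Agent.Lib.Helper5.PSL2Solv3

open Matrix Subgroup
open Cfsg.Agent.Lib.Helper5.PSL2Solv Cfsg.Agent.Lib.Helper5.AutPSL2

variable {F : Type*} [Field F]

theorem mk2_eq_qm3 (h3 : (3 : F) = 0) (a b c d : F) (h : a * d - b * c = 1) :
    mk2 a b c d h = qm (-(a + d)) (-(b - c)) (-(a - d)) (-(b + c))
      (by linear_combination 4 * h + h3) := by
  rw [qm, mk2_inj]
  refine ⟨?_, ?_, ?_, ?_⟩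
  · linear_combination a * h3
  · linear_combination b * h3
  · linear_combination c * h3
  · linear_combination d * h3

theorem wE3_iff' (h3 : (3 : F) = 0) (hns : ∀ z : F, z * z ≠ -1) {a b c d : F}
    (h : a * d - b * c = 1) :
    SolvP (wE F) (mk2 a b c d h) ↔
      ((a = d ∧ b = -c) ∨ a + d = 0 ∨ b = c ∨
        ((a + d) * (a + d) = 1 ∧ (b - c) * (b - c) = 1)) := by
  rw [mk2_eq_qm3 h3, wE3_iff h3 hns]
  have e1 : (-(a - d) = 0 ∧ -(b + c) = 0) ↔ (a = d ∧ b = -c) := by
    constructor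
    · rintro ⟨h1, h2⟩
      exact ⟨by linear_combination (-1 : F) * h1, by linear_combination (-1 : F) * h2⟩
    · rintro ⟨h1, h2⟩
      exact ⟨by linear_combination (-1 : F) * h1, by linear_combination (-1 : F) * h2⟩
  have e2 : -(a + d) = 0 ↔ a + d = 0 := neg_eq_zero
  have e3 : -(b - c) = 0 ↔ b = c := by
    rw [neg_eq_zero, sub_eq_zero]
  rw [e1, e2, e3, neg_mul_neg, neg_mul_neg]

/-- Centralizer of `w`: rotations. -/
def famWA (p : {p : F × F // p.1 * p.1 + p.2 * p.2 = 1}) :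
    Matrix.SpecialLinearGroup (Fin 2) F :=
  mk2 p.1.1 p.1.2 (-p.1.2) p.1.1 (by linear_combination p.2)

/-- Traceless elements. -/
def famWB (z : F × Fˣ) : Matrix.SpecialLinearGroup (Fin 2) F :=
  mk2 z.1 (z.2 : F) (-(1 + z.1 * z.1) * (z.2 : F)⁻¹) (-z.1) (by
    have : (z.2 : F) * (z.2 : F)⁻¹ = 1 := mul_inv_cancel₀ (Units.ne_zero z.2)
    linear_combination (1 + z.1 * z.1) * this)

/-- Symmetric elements. -/
def famWC (z : Fˣ × F) : Matrix.SpecialLinearGroup (Fin 2) F :=
  mk2 (z.1 : F) z.2 z.2 ((1 + z.2 * z.2) * (z.1 : F)⁻¹) (by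
    have : (z.1 : F) * (z.1 : F)⁻¹ = 1 := mul_inv_cancel₀ (Units.ne_zero z.1)
    linear_combination (1 + z.2 * z.2) * this)

/-- Traceless symmetric elements. -/
def famWBC (p : {p : F × F // p.1 * p.1 + p.2 * p.2 = -1}) :
    Matrix.SpecialLinearGroup (Fin 2) F :=
  mk2 p.1.1 p.1.2 p.1.2 (-p.1.1) (by linear_combination (-1 : F) * p.2)

/-- The elements of order three or six mapping `w` into a Klein four-group. -/
def famWD (z : Bool × Bool × {p : F × F // p.1 * p.1 + p.2 * p.2 = 1}) :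
    Matrix.SpecialLinearGroup (Fin 2) F :=
  mk2 (sgn F z.1 + z.2.2.1.1) (sgn F z.2.1 + z.2.2.1.2) (-sgn F z.2.1 + z.2.2.1.2)
    (sgn F z.1 - z.2.2.1.1) (by
      linear_combination sgn_mul_self (F := F) z.1 + sgn_mul_self (F := F) z.2.1 - z.2.2.2)

/-- The four elements `±1, ±w`. -/
def famW4 (z : Bool × Bool) : Matrix.SpecialLinearGroup (Fin 2) F :=
  if z.1 then mk2 (sgn F z.2) 0 0 (sgn F z.2) (by linear_combination sgn_mul_self (F := F) z.2)
  else mk2 0 (sgn F z.2) (-sgn F z.2) 0 (by linear_combination sgn_mul_self (F := F) z.2)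

theorem famWA_inj : Function.Injective (famWA (F := F)) := by
  rintro ⟨⟨a, b⟩, h⟩ ⟨⟨a', b'⟩, h'⟩ e
  simp only [famWA, mk2_inj] at e
  obtain ⟨rfl, rfl, -, -⟩ := e
  rfl

theorem famWB_inj : Function.Injective (famWB (F := F)) := by
  rintro ⟨a, b⟩ ⟨a', b'⟩ e
  simp only [famWB, mk2_inj] at e
  obtain ⟨h1, h2, -, -⟩ := e
  exact Prod.ext h1 (Units.ext h2)

theorem famWC_inj : Function.Injective (famWC (F := F)) := by
  rintro ⟨a, b⟩ ⟨a', b'⟩ e
  simp only [famWC, mk2_inj] at e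
  obtain ⟨h1, h2, -, -⟩ := e
  exact Prod.ext (Units.ext h1) h2

theorem famWBC_inj : Function.Injective (famWBC (F := F)) := by
  rintro ⟨⟨a, b⟩, h⟩ ⟨⟨a', b'⟩, h'⟩ e
  simp only [famWBC, mk2_inj] at e
  obtain ⟨rfl, rfl, -, -⟩ := e
  rfl

theorem famWD_inj (h2 : (2 : F) ≠ 0) : Function.Injective (famWD (F := F)) := by
  rintro ⟨s₁, s₂, ⟨⟨a, b⟩, h⟩⟩ ⟨s₁', s₂', ⟨⟨a', b'⟩, h'⟩⟩ e
  simp only [famWD, mk2_inj] at e
  obtain ⟨e1, e2, e3, e4⟩ := e
  have k1 : sgn F s₁ = sgn F s₁' := by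
    apply mul_left_cancel₀ h2; linear_combination e1 + e4
  have k2 : sgn F s₂ = sgn F s₂' := by
    apply mul_left_cancel₀ h2; linear_combination e2 - e3
  have k3 : a = a' := by
    apply mul_left_cancel₀ h2; linear_combination e1 - e4
  have k4 : b = b' := by
    apply mul_left_cancel₀ h2; linear_combination e2 + e3
  have := sgn_inj h2 k1
  have := sgn_inj h2 k2
  subst_vars
  rfl

theorem sgn_ne_zero (s : Bool) : sgn F s ≠ 0 := by
  intro h
  have := sgn_mul_self (F := F) s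
  rw [h, mul_zero] at this
  exact zero_ne_one this

theorem famW4_inj (h2 : (2 : F) ≠ 0) : Function.Injective (famW4 (F := F)) := by
  rintro ⟨t, s⟩ ⟨t', s'⟩ e
  cases t <;> cases t' <;>
    simp only [famW4, if_true, if_false, Bool.false_eq_true, mk2_inj] at e
  · rw [sgn_inj h2 e.2.1]
  · exact absurd e.1.symm (sgn_ne_zero s')
  · exact absurd e.1 (sgn_ne_zero s)
  · rw [sgn_inj h2 e.1]

theorem mem_range_famWA {a b c d : F} {h : a * d - b * c = 1} :
    mk2 a b c d h ∈ Set.range (famWA (F := F)) ↔ (a = d ∧ b = -c) := by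
  constructor
  · rintro ⟨⟨⟨a', b'⟩, hp⟩, e⟩
    simp only [famWA, mk2_inj] at e
    obtain ⟨rfl, rfl, rfl, rfl⟩ := e
    exact ⟨rfl, by ring⟩
  · rintro ⟨rfl, rfl⟩
    refine ⟨⟨(a, -c), by linear_combination h⟩, ?_⟩
    show mk2 a (-c) (- -c) a _ = mk2 a (-c) c a h
    exact mk2_inj.2 ⟨rfl, rfl, by ring, rfl⟩

theorem mem_range_famWB (hns : ∀ z : F, z * z ≠ -1) {a b c d : F} {h : a * d - b * c = 1} :
    mk2 a b c d h ∈ Set.range (famWB (F := F)) ↔ a + d = 0 := by
  constructor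
  · rintro ⟨⟨a', b'⟩, e⟩
    simp only [famWB, mk2_inj] at e
    obtain ⟨rfl, rfl, rfl, rfl⟩ := e
    ring
  · intro had
    have hd : d = -a := by linear_combination had
    subst hd
    have hb : b ≠ 0 := by
      rintro rfl
      apply hns a
      linear_combination (-1 : F) * h
    refine ⟨(a, Units.mk0 b hb), ?_⟩
    show mk2 a b (-(1 + a * a) * b⁻¹) (-a) _ = mk2 a b c (-a) h
    refine mk2_inj.2 ⟨rfl, rfl, ?_, rfl⟩
    field_simp
    linear_combination h

theorem mem_range_famWC (hns : ∀ z : F, z * z ≠ -1) {a b c d : F} {h : a * d - b * c = 1} :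
    mk2 a b c d h ∈ Set.range (famWC (F := F)) ↔ b = c := by
  constructor
  · rintro ⟨⟨a', b'⟩, e⟩
    simp only [famWC, mk2_inj] at e
    obtain ⟨rfl, rfl, rfl, rfl⟩ := e
    rfl
  · rintro rfl
    have ha : a ≠ 0 := by
      rintro rfl
      apply hns b
      linear_combination (-1 : F) * h
    refine ⟨(Units.mk0 a ha, b), ?_⟩
    show mk2 a b b ((1 + b * b) * a⁻¹) _ = mk2 a b b d h
    refine mk2_inj.2 ⟨rfl, rfl, rfl, ?_⟩
    field_simp
    linear_combination (-1 : F) * h

theorem mem_range_famWBC {a b c d : F} {h : a * d - b * c = 1} :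
    mk2 a b c d h ∈ Set.range (famWBC (F := F)) ↔ (a + d = 0 ∧ b = c) := by
  constructor
  · rintro ⟨⟨⟨a', b'⟩, hp⟩, e⟩
    simp only [famWBC, mk2_inj] at e
    obtain ⟨rfl, rfl, rfl, rfl⟩ := e
    exact ⟨by ring, rfl⟩
  · rintro ⟨had, rfl⟩
    have hd : d = -a := by linear_combination had
    subst hd
    refine ⟨⟨(a, b), by linear_combination (-1 : F) * h⟩, ?_⟩
    simp only [famWBC]

theorem mem_range_famWD (h3 : (3 : F) = 0) {a b c d : F} {h : a * d - b * c = 1} :
    mk2 a b c d h ∈ Set.range (famWD (F := F)) ↔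
      ((a + d) * (a + d) = 1 ∧ (b - c) * (b - c) = 1) := by
  constructor
  · rintro ⟨⟨s₁, s₂, ⟨⟨a', b'⟩, hp⟩⟩, e⟩
    simp only [famWD, mk2_inj] at e
    obtain ⟨rfl, rfl, rfl, rfl⟩ := e
    constructor
    · linear_combination 4 * sgn_mul_self (F := F) s₁ + h3
    · linear_combination 4 * sgn_mul_self (F := F) s₂ + h3
  · rintro ⟨h1, h2⟩
    obtain ⟨s₁, hs₁⟩ := exists_sgn (c := -(a + d)) (by linear_combination h1)
    obtain ⟨s₂, hs₂⟩ := exists_sgn (c := -(b - c)) (by linear_combination h2)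
    refine ⟨(s₁, s₂, ⟨(-(a - d), -(b + c)), ?_⟩), ?_⟩
    · show -(a - d) * -(a - d) + -(b + c) * -(b + c) = 1
      linear_combination h1 + h2 - 4 * h - h3
    · show mk2 (sgn F s₁ + -(a - d)) (sgn F s₂ + -(b + c)) (-sgn F s₂ + -(b + c))
        (sgn F s₁ - -(a - d)) _ = mk2 a b c d h
      refine mk2_inj.2 ⟨?_, ?_, ?_, ?_⟩
      · rw [hs₁]; linear_combination (-a) * h3
      · rw [hs₂]; linear_combination (-b) * h3
      · rw [hs₂]; linear_combination (-c) * h3
      · rw [hs₁]; linear_combination (-d) * h3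

theorem mem_range_famW4 (h2 : (2 : F) ≠ 0) {a b c d : F} {h : a * d - b * c = 1} :
    mk2 a b c d h ∈ Set.range (famW4 (F := F)) ↔ ((a = d ∧ b = -c) ∧ (a + d = 0 ∨ b = c)) := by
  constructor
  · rintro ⟨⟨t, s⟩, e⟩
    cases t <;> simp only [famW4, if_true, if_false, Bool.false_eq_true, mk2_inj] at e
    · obtain ⟨rfl, rfl, rfl, rfl⟩ := e
      exact ⟨⟨rfl, by ring⟩, Or.inl (by ring)⟩
    · obtain ⟨rfl, rfl, rfl, rfl⟩ := e
      exact ⟨⟨rfl, by ring⟩, Or.inr rfl⟩
  · rintro ⟨⟨rfl, rfl⟩, hor⟩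
    rcases hor with h0 | h0
    · have ha : a = 0 := by
        have : 2 * a = 0 := by linear_combination h0
        exact (mul_eq_zero.1 this).resolve_left h2
      subst ha
      obtain ⟨s, hs⟩ := exists_sgn (c := -c) (by linear_combination h)
      refine ⟨(false, s), ?_⟩
      simp only [famW4, if_false, Bool.false_eq_true, mk2_inj, hs]
      exact ⟨trivial, trivial, by ring, trivial⟩
    · have hc : c = 0 := by
        have : 2 * c = 0 := by linear_combination (-1 : F) * h0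
        exact (mul_eq_zero.1 this).resolve_left h2
      subst hc
      obtain ⟨s, hs⟩ := exists_sgn (c := a) (by linear_combination h)
      refine ⟨(true, s), ?_⟩
      simp only [famW4, if_true, mk2_inj, hs]
      exact ⟨trivial, by ring, trivial, trivial⟩

theorem wE3_set (h3 : (3 : F) = 0) (hns : ∀ z : F, z * z ≠ -1) :
    {y : Matrix.SpecialLinearGroup (Fin 2) F | SolvP (wE F) y} =
      ((Set.range (famWB (F := F)) ∪ Set.range (famWC (F := F))) ∪ Set.range (famWA (F := F))) ∪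
        Set.range (famWD (F := F)) := by
  ext y
  obtain ⟨a, b, c, d, h, rfl⟩ := exists_mk2 y
  rw [Set.mem_ofPred_eq, wE3_iff' h3 hns, Set.mem_union, Set.mem_union, Set.mem_union,
    mem_range_famWA, mem_range_famWB hns, mem_range_famWC hns, mem_range_famWD h3]
  tauto

theorem wBC_inter (hns : ∀ z : F, z * z ≠ -1) :
    Set.range (famWB (F := F)) ∩ Set.range (famWC (F := F)) = Set.range (famWBC (F := F)) := by
  ext y
  obtain ⟨a, b, c, d, h, rfl⟩ := exists_mk2 y
  rw [Set.mem_inter_iff, mem_range_famWB hns, mem_range_famWC hns, mem_range_famWBC]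

theorem wBCA_inter (hns : ∀ z : F, z * z ≠ -1) :
    (Set.range (famWB (F := F)) ∪ Set.range (famWC (F := F))) ∩ Set.range (famWA (F := F)) =
      Set.range (famW4 (F := F)) := by
  have h2 : (2 : F) ≠ 0 := two_ne_zero_of_hns hns
  ext y
  obtain ⟨a, b, c, d, h, rfl⟩ := exists_mk2 y
  rw [Set.mem_inter_iff, Set.mem_union, mem_range_famWB hns, mem_range_famWC hns,
    mem_range_famWA, mem_range_famW4 h2]
  tauto

theorem wD_disj (h3 : (3 : F) = 0) (hns : ∀ z : F, z * z ≠ -1) :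
    Disjoint ((Set.range (famWB (F := F)) ∪ Set.range (famWC (F := F))) ∪
      Set.range (famWA (F := F))) (Set.range (famWD (F := F))) := by
  rw [Set.disjoint_left]
  intro y hy hD
  obtain ⟨a, b, c, d, h, rfl⟩ := exists_mk2 y
  rw [Set.mem_union, Set.mem_union, mem_range_famWB hns, mem_range_famWC hns,
    mem_range_famWA] at hy
  rw [mem_range_famWD h3] at hD
  obtain ⟨h1, h2⟩ := hD
  rcases hy with (h0 | h0) | ⟨h0, h0'⟩
  · rw [h0, mul_zero] at h1
    exact zero_ne_one h1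
  · rw [h0, sub_self, mul_zero] at h2
    exact zero_ne_one h2
  · subst h0 h0'
    apply zero_ne_one (α := F)
    linear_combination h1 + h2 - 4 * h - h3

theorem card_F_units [Fintype F] :
    Nat.card (F × Fˣ) = Fintype.card F * (Fintype.card F - 1) := by
  classical
  rw [Nat.card_prod, Nat.card_eq_fintype_card, Nat.card_eq_fintype_card, Fintype.card_units]

theorem card_units_F [Fintype F] :
    Nat.card (Fˣ × F) = Fintype.card F * (Fintype.card F - 1) := by
  classical
  rw [Nat.card_prod, Nat.card_eq_fintype_card, Nat.card_eq_fintype_card, Fintype.card_units,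
    mul_comm]

theorem card_bool_bool : Nat.card (Bool × Bool) = 4 := by
  rw [Nat.card_prod, Nat.card_eq_fintype_card, Fintype.card_bool]

theorem wE3_count [Fintype F] (hodd : Fintype.card F % 2 = 1) (h3 : (3 : F) = 0)
    (hns : ∀ z : F, z * z ≠ -1) :
    Nat.card {y : Matrix.SpecialLinearGroup (Fin 2) F // SolvP (wE F) y} =
      2 * (Fintype.card F * (Fintype.card F + 1)) := by
  classical
  have h2 : (2 : F) ≠ 0 := two_ne_zero_of_hns hns
  have h0 : Nat.card {y : Matrix.SpecialLinearGroup (Fin 2) F // SolvP (wE F) y} =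
      ({y : Matrix.SpecialLinearGroup (Fin 2) F | SolvP (wE F) y}).ncard :=
    Nat.card_coe_set_eq _
  obtain ⟨n, hn⟩ : ∃ n, Fintype.card F = n + 1 :=
    Nat.exists_eq_succ_of_ne_zero Fintype.card_ne_zero
  have k1 := Set.ncard_union_add_ncard_inter (Set.range (famWB (F := F)))
    (Set.range (famWC (F := F)))
  have k2 := Set.ncard_union_add_ncard_inter
    (Set.range (famWB (F := F)) ∪ Set.range (famWC (F := F))) (Set.range (famWA (F := F)))
  rw [wBC_inter hns, ncard_range_inj _ famWB_inj, ncard_range_inj _ famWC_inj,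
    ncard_range_inj _ famWBC_inj, card_F_units, card_units_F,
    card_conic hodd hns (-1) (neg_ne_zero.2 one_ne_zero)] at k1
  rw [wBCA_inter hns, ncard_range_inj _ famWA_inj, ncard_range_inj _ (famW4_inj h2),
    card_bool_bool, card_conic hodd hns 1 one_ne_zero] at k2
  rw [h0, wE3_set h3 hns, Set.ncard_union_eq (wD_disj h3 hns) (Set.toFinite _) (Set.toFinite _),
    ncard_range_inj _ (famWD_inj h2), Nat.card_prod, Nat.card_prod,
    card_conic hodd hns 1 one_ne_zero, Nat.card_eq_fintype_card, Fintype.card_bool]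
  rw [hn] at k1 k2 ⊢
  simp only [Nat.add_sub_cancel] at k1
  have e1 : (n + 1) * (n + 1 + 1) = (n + 1) * n + 2 * (n + 1) := by ring
  rw [e1]
  generalize (n + 1) * n = Q at *
  generalize (Set.range (famWB (F := F)) ∪ Set.range (famWC (F := F))).ncard = X at *
  generalize ((Set.range (famWB (F := F)) ∪ Set.range (famWC (F := F))) ∪
    Set.range (famWA (F := F))).ncard = Y at *
  omega

end Cfsg.Agent.Lib.Helper5.PSL2Solv3
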