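import Mathlib
import Cfsg.Agent.Lib.Helper5.PSL2Solv3.CountW3
import Cfsg.Agent.Lib.Helper5.PSL2Solv.Norm

set_option autoImplicit false

namespace Cfsg.Agent.Lib.Helper5.PSL2Solv3

open Matrix Subgroup
open Cfsg.Agent.Lib.Helper5.PSL2Solv Cfsg.Agent.Lib.Helper5.AutPSL2

variable {F : Type*} [Field F]

omit [Field F] in
theorem mat2_congr {x₁ x₂ x₃ x₄ y₁ y₂ y₃ y₄ : F} (h1 : x₁ = y₁) (h2 : x₂ = y₂) (h3 : x₃ = y₃)
    (h4 : x₄ = y₄) : (!![x₁, x₂; x₃, x₄] : Matrix (Fin 2) (Fin 2) F) = !![y₁, y₂; y₃, y₄] := by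
  subst h1 h2 h3 h4
  rfl

/-- A non-scalar element of `SL₂` is `GL₂`-conjugate to the companion matrix of its
characteristic polynomial. -/
theorem exists_glConj_companion {a b c d : F} (h : a * d - b * c = 1)
    (hg : ¬ (b = 0 ∧ c = 0 ∧ a = d)) :
    ∃ A : GL (Fin 2) F, glConj F A (mk2 a b c d h) = mk2 0 (-1) 1 (a + d) (by ring) := by
  by_cases hb : b = 0
  · by_cases hc : c = 0
    · have had : a - d ≠ 0 := by
        intro h0
        exact hg ⟨hb, hc, by linear_combination h0⟩
      subst hb hc
      have hdet : (!![1, 1; -a, -d] : Matrix (Fin 2) (Fin 2) F).det ≠ 0 := by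
        rw [Matrix.det_fin_two_of]
        intro h0
        apply had
        linear_combination h0
      refine ⟨Matrix.GeneralLinearGroup.mkOfDetNeZero _ hdet, ?_⟩
      apply glConj_eq_of_mul_eq
      show !![1, 1; -a, -d] * !![a, 0; 0, d] = !![0, -1; 1, a + d] * !![1, 1; -a, -d]
      rw [Matrix.mul_fin_two, Matrix.mul_fin_two]
      apply mat2_congr
      · ring
      · ring
      · linear_combination h
      · linear_combination h
    · have hdet : (!![0, 1; -c, -d] : Matrix (Fin 2) (Fin 2) F).det ≠ 0 := by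
        rw [Matrix.det_fin_two_of]
        intro h0
        apply hc
        linear_combination h0
      refine ⟨Matrix.GeneralLinearGroup.mkOfDetNeZero _ hdet, ?_⟩
      apply glConj_eq_of_mul_eq
      show !![0, 1; -c, -d] * !![a, b; c, d] = !![0, -1; 1, a + d] * !![0, 1; -c, -d]
      rw [Matrix.mul_fin_two, Matrix.mul_fin_two]
      apply mat2_congr
      · ring
      · ring
      · ring
      · linear_combination h
  · have hdet : (!![1, 0; -a, -b] : Matrix (Fin 2) (Fin 2) F).det ≠ 0 := by
      rw [Matrix.det_fin_two_of]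
      intro h0
      apply hb
      linear_combination (-1 : F) * h0
    refine ⟨Matrix.GeneralLinearGroup.mkOfDetNeZero _ hdet, ?_⟩
    apply glConj_eq_of_mul_eq
    show !![1, 0; -a, -b] * !![a, b; c, d] = !![0, -1; 1, a + d] * !![1, 0; -a, -b]
    rw [Matrix.mul_fin_two, Matrix.mul_fin_two]
    apply mat2_congr
    · ring
    · ring
    · linear_combination h
    · ring

/-- Non-scalar elements of `SL₂` with the same trace are conjugate under `GL₂`. -/
theorem exists_cG_of_trace {a b c d : F} (h : a * d - b * c = 1) {a' b' c' d' : F}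
    (h' : a' * d' - b' * c' = 1) (hg : ¬ (b = 0 ∧ c = 0 ∧ a = d))
    (hg' : ¬ (b' = 0 ∧ c' = 0 ∧ a' = d')) (ht : a + d = a' + d') :
    ∃ A : GL (Fin 2) F, cG F A (pr F (mk2 a b c d h)) = pr F (mk2 a' b' c' d' h') := by
  obtain ⟨A₁, hA₁⟩ := exists_glConj_companion h hg
  obtain ⟨A₂, hA₂⟩ := exists_glConj_companion h' hg'
  refine ⟨A₂⁻¹ * A₁, ?_⟩
  rw [cG_pr]
  congr 1
  rw [map_mul, map_inv, MulAut.mul_apply, hA₁, MulAut.inv_apply, MulEquiv.symm_apply_eq, hA₂]
  exact mk2_inj.2 ⟨rfl, rfl, rfl, ht⟩

theorem negOne_ne_one (h2 : (2 : F) ≠ 0) : negOne F ≠ 1 := by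
  intro h
  rw [negOne, mk2_one, mk2_inj] at h
  apply h2
  linear_combination (-1 : F) * h.1

/-- Counting in `SL₂` versus `PSL₂`. -/
theorem card_lift_pred (h2 : (2 : F) ≠ 0)
    (P : Matrix.ProjectiveSpecialLinearGroup (Fin 2) F → Prop) :
    Nat.card {g : Matrix.SpecialLinearGroup (Fin 2) F // P (pr F g)} =
      2 * Nat.card {y : Matrix.ProjectiveSpecialLinearGroup (Fin 2) F // P y} := by
  classical
  have hσ : ∀ y, pr F (Function.surjInv (pr_surjective (F := F)) y) = y :=
    Function.surjInv_eq _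
  have hne := negOne_ne_one h2
  let f : {y : Matrix.ProjectiveSpecialLinearGroup (Fin 2) F // P y} × Bool →
      {g : Matrix.SpecialLinearGroup (Fin 2) F // P (pr F g)} := fun z =>
    if z.2 then ⟨Function.surjInv (pr_surjective (F := F)) z.1.1, by rw [hσ]; exact z.1.2⟩
    else ⟨negOne F * Function.surjInv (pr_surjective (F := F)) z.1.1, by
      rw [pr_negOne_mul, hσ]; exact z.1.2⟩
  have hf1 : ∀ z, pr F (f z).1 = z.1.1 := by
    rintro ⟨y, s⟩
    cases s
    · show pr F (negOne F * _) = _
      rw [pr_negOne_mul, hσ]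
    · show pr F (Function.surjInv _ _) = _
      rw [hσ]
  have hf : Function.Bijective f := by
    constructor
    · rintro ⟨y, s⟩ ⟨y', s'⟩ e
      have hy : y = y' := by
        apply Subtype.ext
        have := congrArg (fun g => pr F g.1) e
        simp only [hf1] at this
        exact this
      subst hy
      have e' := congrArg Subtype.val e
      cases s <;> cases s'
      · rfl
      · exfalso
        change negOne F * _ = Function.surjInv _ _ at e'
        apply hne
        exact mul_eq_right.1 e'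
      · exfalso
        change Function.surjInv _ _ = negOne F * _ at e'
        apply hne
        exact mul_eq_right.1 e'.symm
      · rfl
    · rintro ⟨g, hg⟩
      have h1 := (pr_eq_iff (Function.surjInv (pr_surjective (F := F)) (pr F g)) g).1 (hσ _)
      rcases h1 with h1 | h1
      · refine ⟨(⟨pr F g, hg⟩, true), ?_⟩
        apply Subtype.ext
        exact h1.symm
      · refine ⟨(⟨pr F g, hg⟩, false), ?_⟩
        apply Subtype.ext
        exact h1.symm
  rw [← Nat.card_congr (Equiv.ofBijective f hf), Nat.card_prod,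
    Nat.card_eq_fintype_card (α := Bool), Fintype.card_bool, mul_comm]

end Cfsg.Agent.Lib.Helper5.PSL2Solv3
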