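import Mathlib
import Cfsg.Agent.Lib.Helper5.PSL2Solv3.Norm3
import Cfsg.Agent.Lib.Helper5.AutPSL2.Main

set_option autoImplicit false

namespace Cfsg.Agent.Lib.Helper5.PSL2Solv3

open Matrix Subgroup
open Cfsg.Agent.Lib.Helper5.PSL2Solv Cfsg.Agent.Lib.Helper5.AutPSL2

variable {F : Type*} [Field F]

/-- The group of rotations. -/
def rotSub (F : Type*) [Field F] : Subgroup (Matrix.SpecialLinearGroup (Fin 2) F) where
  carrier := Set.range (famRot3 (F := F))
  mul_mem' := by
    rintro _ _ ⟨⟨⟨a, b⟩, hp⟩, rfl⟩ ⟨⟨⟨a', b'⟩, hp'⟩, rfl⟩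
    have hp1 : a * a + b * b = 1 := hp
    have hp2 : a' * a' + b' * b' = 1 := hp'
    refine ⟨⟨(a * a' - b * b', a * b' + b * a'), ?_⟩, ?_⟩
    · show (a * a' - b * b') * (a * a' - b * b') + (a * b' + b * a') * (a * b' + b * a') = 1
      linear_combination (a' * a' + b' * b') * hp1 + hp2
    · show qm (a * a' - b * b') (a * b' + b * a') 0 0 _ = qm a b 0 0 _ * qm a' b' 0 0 _
      rw [qm_mul]
      apply qm_congr <;> ring
  one_mem' := by
    refine ⟨⟨(1, 0), by ring⟩, ?_⟩
    show qm 1 0 0 0 _ = 1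
    rw [qm_one]
  inv_mem' := by
    rintro _ ⟨⟨⟨a, b⟩, hp⟩, rfl⟩
    have hp1 : a * a + b * b = 1 := hp
    refine ⟨⟨(a, -b), by linear_combination hp1⟩, ?_⟩
    show qm a (-b) 0 0 _ = (qm a b 0 0 _)⁻¹
    rw [qm_inv]
    apply qm_congr <;> ring

theorem card_rotSub [Fintype F] (hodd : Fintype.card F % 2 = 1) (hns : ∀ z : F, z * z ≠ -1) :
    Nat.card ↥(rotSub F) = Fintype.card F + 1 := by
  have h2 : (2 : F) ≠ 0 := two_ne_zero_of_hns hns
  show Nat.card ↥(Set.range (famRot3 (F := F))) = _
  rw [Nat.card_range_of_injective (famRot3_inj h2), card_conic hodd hns 1 one_ne_zero]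

theorem rot_pow_card [Fintype F] (hodd : Fintype.card F % 2 = 1) (hns : ∀ z : F, z * z ≠ -1)
    {α β : F} (hr : α * α - β * (-β) = 1) :
    (rot α β hr) ^ (Fintype.card F + 1) = 1 := by
  have hmem : rot α β hr ∈ rotSub F := by
    refine ⟨⟨(α, β), by linear_combination hr⟩, ?_⟩
    show qm α β 0 0 _ = rot α β hr
    rw [rot_eq_qm]
  have := pow_card_eq_one' (G := ↥(rotSub F)) (x := ⟨rot α β hr, hmem⟩)
  rw [card_rotSub hodd hns] at this
  have := congrArg Subtype.val this
  simpa using this

theorem diag_pow_card [Fintype F] {l u : F} (hx : l * u - 0 * 0 = 1) :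
    (mk2 l 0 0 u hx) ^ (Fintype.card F - 1) = 1 := by
  have hl : l ≠ 0 := by
    rintro rfl
    rw [zero_mul, mul_zero, sub_zero] at hx
    exact zero_ne_one hx
  have hu : u ≠ 0 := by
    rintro rfl
    rw [mul_zero, mul_zero, sub_zero] at hx
    exact zero_ne_one hx
  rw [diag_pow, mk2_one, mk2_inj]
  exact ⟨FiniteField.pow_card_sub_one_eq_one l hl, rfl, rfl,
    FiniteField.pow_card_sub_one_eq_one u hu⟩

theorem cube_of_disc_zero (h3 : (3 : F) = 0) {a b c d : F} (h : a * d - b * c = 1)
    (hΔ : (a + d) * (a + d) = 4) : pr F (mk2 a b c d h) ^ 3 = 1 := by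
  rw [← map_pow, pr_eq_one_iff]
  have e : (mk2 a b c d h) ^ 3 = mk2 (-(a + d)) 0 0 (-(a + d))
      (by linear_combination hΔ + h3) := by
    rw [pow_succ, pow_two, mk2_mul, mk2_mul, mk2_inj]
    refine ⟨?_, ?_, ?_, ?_⟩
    · linear_combination (-(2 * a + d)) * h + a * hΔ + a * h3
    · linear_combination (-b) * h + b * hΔ + b * h3
    · linear_combination (-c) * h + c * hΔ + c * h3
    · linear_combination (-(2 * d + a)) * h + d * hΔ + d * h3
  rw [e]
  have : (-(a + d) - 1) * (-(a + d) + 1) = 0 := by linear_combination hΔ + h3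
  rcases mul_eq_zero.1 this with h0 | h0
  · left
    rw [mk2_one, mk2_inj]
    exact ⟨by linear_combination h0, rfl, rfl, by linear_combination h0⟩
  · right
    rw [negOne, mk2_inj]
    exact ⟨by linear_combination h0, rfl, rfl, by linear_combination h0⟩

theorem isSquare_neg_of_not [Fintype F] (hns : ∀ z : F, z * z ≠ -1) {Δ : F} (hΔ : Δ ≠ 0)
    (hsq : ¬ IsSquare Δ) : IsSquare (-Δ) := by
  classical
  have h1 : quadraticChar F Δ = -1 := quadraticChar_neg_one_iff_not_isSquare.2 hsq
  have h2 : quadraticChar F (-1) = -1 := by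
    apply quadraticChar_neg_one_iff_not_isSquare.2
    rintro ⟨r, hr⟩
    exact hns r hr.symm
  have h3 : quadraticChar F (-Δ) = 1 := by
    rw [show -Δ = (-1) * Δ by ring, map_mul, h1, h2]
    norm_num
  exact (quadraticChar_one_iff_isSquare (neg_ne_zero.2 hΔ)).1 h3

/-- Split or non-split normal form of a semisimple element. -/
theorem normal_form [Fintype F] (hns : ∀ z : F, z * z ≠ -1) {a b c d : F}
    (h : a * d - b * c = 1) (hΔ : (a + d) * (a + d) ≠ 4) :
    (∃ (l u : F) (hx : l * u - 0 * 0 = 1), l * l ≠ 1 ∧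
      ∃ A : GL (Fin 2) F, cG F A (pr F (mk2 a b c d h)) = pr F (mk2 l 0 0 u hx)) ∨
    (∃ (α β : F) (hr : α * α - β * (-β) = 1), β ≠ 0 ∧ (α = 0 → a + d = 0) ∧
      ∃ A : GL (Fin 2) F, cG F A (pr F (mk2 a b c d h)) = pr F (rot α β hr)) := by
  have h2 : (2 : F) ≠ 0 := two_ne_zero_of_hns hns
  have hg : ¬ (b = 0 ∧ c = 0 ∧ a = d) := by
    rintro ⟨rfl, rfl, rfl⟩
    apply hΔ
    linear_combination 4 * h
  by_cases hsq : IsSquare ((a + d) * (a + d) - 4)
  · obtain ⟨δ, hδ⟩ := hsq
    have hδ0 : δ ≠ 0 := by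
      rintro rfl
      apply hΔ
      linear_combination hδ
    left
    have hx : (a + d + δ) / 2 * ((a + d - δ) / 2) - 0 * 0 = 1 := by
      field_simp
      linear_combination hδ
    refine ⟨(a + d + δ) / 2, (a + d - δ) / 2, hx, ?_, ?_⟩
    · intro hl
      have h0 : (a + d + δ) / 2 * δ = 0 := by
        have e : (a + d + δ) / 2 * δ =
            (a + d + δ) / 2 * ((a + d + δ) / 2) - (a + d + δ) / 2 * ((a + d - δ) / 2) := by
          field_simp
          ring
        rw [e, hl]
        linear_combination (-1 : F) * hx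
      rcases mul_eq_zero.1 h0 with h0 | h0
      · rw [h0, mul_zero] at hl
        exact zero_ne_one hl
      · exact hδ0 h0
    · apply exists_cG_of_trace h hx hg
      · rintro ⟨-, -, hlu⟩
        apply hδ0
        have : 2 * δ = 0 := by
          field_simp at hlu
          linear_combination hlu
        exact (mul_eq_zero.1 this).resolve_left h2
      · field_simp
        ring
  · right
    have hΔ' : (a + d) * (a + d) - 4 ≠ 0 := sub_ne_zero.2 hΔ
    obtain ⟨γ, hγ⟩ := isSquare_neg_of_not hns hΔ' hsq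
    have hγ0 : γ ≠ 0 := by
      rintro rfl
      apply hΔ'
      linear_combination (-1 : F) * hγ
    have hr : (a + d) / 2 * ((a + d) / 2) - γ / 2 * (-(γ / 2)) = 1 := by
      field_simp
      linear_combination (-1 : F) * hγ
    refine ⟨(a + d) / 2, γ / 2, hr, div_ne_zero hγ0 h2, ?_, ?_⟩
    · intro h0
      rcases div_eq_zero_iff.1 h0 with h0 | h0
      · exact h0
      · exact absurd h0 h2
    · show ∃ A : GL (Fin 2) F, cG F A (pr F (mk2 a b c d h)) =
        pr F (mk2 ((a + d) / 2) (γ / 2) (-(γ / 2)) ((a + d) / 2) hr)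
      apply exists_cG_of_trace h hr hg
      · rintro ⟨h0, -, -⟩
        exact div_ne_zero hγ0 h2 h0
      · field_simp
        ring

/-- Normal form of an involution. -/
theorem order2_norm (hns : ∀ z : F, z * z ≠ -1)
    (x : Matrix.ProjectiveSpecialLinearGroup (Fin 2) F) (hx : orderOf x = 2) :
    ∃ A : GL (Fin 2) F, cG F A x = pr F (wE F) := by
  have h2 : (2 : F) ≠ 0 := two_ne_zero_of_hns hns
  obtain ⟨g, rfl⟩ := pr_surjective x
  obtain ⟨a, b, c, d, h, rfl⟩ := exists_mk2 g
  have hx2 : pr F (mk2 a b c d h) ^ 2 = 1 := by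
    have := pow_orderOf_eq_one (pr F (mk2 a b c d h))
    rwa [hx] at this
  have hx1 : pr F (mk2 a b c d h) ≠ 1 := by
    intro h1
    rw [h1, orderOf_one] at hx
    norm_num at hx
  rw [← map_pow, pr_eq_one_iff, pow_two, mk2_mul] at hx2
  have ht : a + d = 0 := by
    by_contra ht
    rcases hx2 with e | e
    · rw [mk2_one, mk2_inj] at e
      obtain ⟨e1, e2, e3, e4⟩ := e
      have hb : b = 0 := by
        have : b * (a + d) = 0 := by linear_combination e2
        exact (mul_eq_zero.1 this).resolve_right ht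
      have hc : c = 0 := by
        have : c * (a + d) = 0 := by linear_combination e3
        exact (mul_eq_zero.1 this).resolve_right ht
      subst hb hc
      apply hx1
      rw [pr_eq_one_iff]
      have : (a - 1) * (a + 1) = 0 := by linear_combination e1
      rcases mul_eq_zero.1 this with h0 | h0
      · left
        have ha : a = 1 := by linear_combination h0
        subst ha
        rw [mk2_one, mk2_inj]
        exact ⟨rfl, rfl, rfl, by linear_combination h⟩
      · right
        have ha : a = -1 := by linear_combination h0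
        subst ha
        rw [negOne, mk2_inj]
        exact ⟨rfl, rfl, rfl, by linear_combination (-1 : F) * h⟩
    · rw [negOne, mk2_inj] at e
      obtain ⟨e1, e2, e3, e4⟩ := e
      have hb : b = 0 := by
        have : b * (a + d) = 0 := by linear_combination e2
        exact (mul_eq_zero.1 this).resolve_right ht
      subst hb
      apply hns a
      linear_combination e1
  show ∃ A : GL (Fin 2) F, cG F A (pr F (mk2 a b c d h)) = pr F (mk2 0 1 (-1) 0 (by ring))
  apply exists_cG_of_trace h _ _ _ _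
  · rintro ⟨rfl, rfl, rfl⟩
    have : (2 : F) * a = 0 := by linear_combination ht
    have ha := (mul_eq_zero.1 this).resolve_left h2
    subst ha
    apply zero_ne_one (α := F)
    linear_combination h
  · rintro ⟨h0, -, -⟩
    exact one_ne_zero h0
  · linear_combination ht

theorem two_mul_card_sol (h2 : (2 : F) ≠ 0)
    (x : Matrix.ProjectiveSpecialLinearGroup (Fin 2) F) (A : GL (Fin 2) F)
    (g₀ : Matrix.SpecialLinearGroup (Fin 2) F) (hA : cG F A x = pr F g₀) :
    2 * Nat.card {y : Matrix.ProjectiveSpecialLinearGroup (Fin 2) F //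
      Group.IsSolvable ↥(Subgroup.closure ({x, y} :
        Set (Matrix.ProjectiveSpecialLinearGroup (Fin 2) F)))} =
      Nat.card {g : Matrix.SpecialLinearGroup (Fin 2) F // SolvP g₀ g} := by
  rw [card_solv_congr (cG F A) x, hA]
  exact (card_lift_pred h2 (fun y => Group.IsSolvable ↥(Subgroup.closure ({pr F g₀, y} :
    Set (Matrix.ProjectiveSpecialLinearGroup (Fin 2) F))))).symm

theorem field_facts (p : ℕ) (hodd : Odd p) [Fintype F] (hF : Fintype.card F = 3 ^ p) :
    (∀ z : F, z * z ≠ -1) ∧ Fintype.card F % 2 = 1 := by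
  obtain ⟨k, rfl⟩ := hodd
  constructor
  · intro z hz
    have h1 : IsSquare (-1 : F) := ⟨z, hz.symm⟩
    rw [FiniteField.isSquare_neg_one_iff, hF] at h1
    apply h1
    rw [pow_succ, pow_mul, Nat.mul_mod, Nat.pow_mod]
    norm_num
  · rw [hF, Nat.pow_mod]
    norm_num

end Cfsg.Agent.Lib.Helper5.PSL2Solv3
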